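import Groth.Agent.Lib.Helper2.RGTors.Comp
import Groth.Agent.Lib.Helper2.RGColim.Main

/-!
# `RΓ_I` exists; HDI via the model
-/

set_option autoImplicit false
universe u

open CategoryTheory CategoryTheory.Limits DerivedCategory Pretriangulated

namespace Groth.Agent.Lib.Helper2.RGTors

open Groth.Agent.Lib.Helper13 Groth.Agent.Lib.Helper2.TorsExt
open Groth.Agent.Lib.Helper17 Groth.Agent.Lib.Helper17.DerKInj Groth.Agent.Lib.Helper17.DerAbs

attribute [local instance] HasDerivedCategory.standard

variable {A : Type u} [CommRing A]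

/-- The total right derived functor of `Γ_I` exists. -/
lemma hasRgammaI (I : Ideal A) : DRing.HasRgammaI I :=
  DerAbs.hasRightDerivedFunctor (enoughLocal_Qh (RG.hasKInjRes (A := A)))
    (compat_Qh (DRing.gammaIKh I))

/-- `HDI A I K i ≃ H^i(Γ_I E)` for a K-injective resolution `E` of `K`. -/
noncomputable def hdiModelEquiv (I : Ideal A) (K : Dual.D A) (E : DRing.Cx A) [E.IsKInjective]
    (e : K ≅ Q.obj E) (i : ℤ) :
    Dual2.HDI A I K i ≃ₗ[A] ((RG.gamCx I).obj E).homology i :=
  (RGColim.colimIso I ((shiftFunctor (Dual.D A) i).mapIso e)).toLinearEquiv ≪≫ₗ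
    RGColim.modelEquiv I E i

end Groth.Agent.Lib.Helper2.RGTors
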