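import Groth.Agent.Lib.Helper2.RGTors.Eps

/-!
# K-injective resolutions with injective terms; `RΓ_I K ⟶ K` for torsion `K`
-/

set_option autoImplicit false
universe u

open CategoryTheory CategoryTheory.Limits DerivedCategory Pretriangulated

namespace Groth.Agent.Lib.Helper2.RGTors

open Groth.Agent.Lib.Helper13 Groth.Agent.Lib.Helper2.TorsExt

attribute [local instance] HasDerivedCategory.standard

variable {A : Type u} [CommRing A]

/-- K-injective resolutions of complexes, with injective terms. -/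
lemma exists_res_cx (X : DRing.Cx A) :
    ∃ (E : DRing.Cx A) (g : X ⟶ E), E.IsKInjective ∧ QuasiIso g ∧
      ∀ n, Module.Injective A (E.X n) := by
  obtain ⟨E, g, h1, h2, -, h4⟩ := Groth.Agent.Lib.Helper17.KInjRes.exists_kInjective_resolution X
  exact ⟨E, g, h1, h2, fun n => (Module.injective_iff_injective_object A (E.X n)).2 (h4 n)⟩

/-- K-injective resolutions of objects of `D(A)`, with injective terms. -/
lemma exists_res (K : Dual.D A) :
    ∃ (E : DRing.Cx A) (_ : E.IsKInjective) (_ : K ≅ Q.obj E),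
      ∀ n, Module.Injective A (E.X n) := by
  obtain ⟨E, g, h1, h2, h3⟩ := exists_res_cx (Q.objPreimage K)
  have hg' : IsIso (Q.map g) := by
    rw [DerivedCategory.isIso_Q_map_iff_quasiIso]; exact h2
  exact ⟨E, h1, (Q.objObjPreimageIso K).symm ≪≫ asIso (Q.map g), h3⟩

lemma exists_list_of_fg (I : Ideal A) (h : I.FG) : ∃ fs : List A, spanL fs = I := by
  obtain ⟨S, hS⟩ := h
  refine ⟨S.toList, ?_⟩
  rw [spanL_eq, ← hS]
  congr 1
  ext x
  simp

lemma exists_list [IsNoetherianRing A] (I : Ideal A) : ∃ fs : List A, spanL fs = I :=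
  exists_list_of_fg I (IsNoetherian.noetherian I)

lemma goodL_of_injective [IsNoetherianRing A] (E : DRing.Cx A)
    (hE : ∀ n, Module.Injective A (E.X n)) (fs : List A) (j : ℤ) : GoodL (E.X j) fs :=
  haveI := hE j
  (goodAll_of_injective (E.X j)).goodL _ fs

/-- Power-torsion cohomology gives `TorsL`. -/
lemma TorsL_of_powerTorsion (fs : List A) (K : Dual.D A)
    (hK : ∀ i : ℤ, LocCoh.IsPowerTorsion (spanL fs) (Dual.HD A K i)) : TorsL fs K :=
  fun _ hf i => FTors_of_powerTorsion _ (spanL fs) (mem_spanL hf) (hK i)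

/-- `TorsL` gives power-torsion cohomology. -/
lemma powerTorsion_of_TorsL (fs : List A) (K : Dual.D A) (hK : TorsL fs K) (i : ℤ) :
    LocCoh.IsPowerTorsion (spanL fs) (Dual.HD A K i) := by
  classical
  intro x
  have h := powerTorsion_of_FTors (fs.toFinset) (H := Dual.HD A K i)
    (fun g hg => hK g (List.mem_toFinset.1 hg) i) x
  have he : Ideal.span ((fs.toFinset : Finset A) : Set A) = spanL fs := by
    rw [spanL_eq]
    congr 1
    ext x
    simp
  rw [he] at h
  exact h

variable [IsNoetherianRing A]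

/-- On the model: `Γ_I E ⟶ E` is an isomorphism in `D(A)` if `E` has torsion cohomology. -/
theorem isIso_ε_model (fs : List A) [DRing.HasRgammaI (spanL fs)] (E : DRing.Cx A)
    [E.IsKInjective] (hE : ∀ n, Module.Injective A (E.X n)) (hT : TorsL fs (Q.obj E)) :
    IsIso ((DRing.RgammaIε (spanL fs)).app (Q.obj E)) := by
  have h1 : IsIso (Q.map (ιCx (spanL fs) E)) :=
    isIso_Q_map_ιCx E fs (goodL_of_injective E hE fs) hT
  have h2 := RgamIso_hom_ε (spanL fs) E
  have h3 : (DRing.RgammaIε (spanL fs)).app (Q.obj E) =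
      (RG.RgamIso (spanL fs) E).inv ≫ Q.map (ιCx (spanL fs) E) := by
    rw [← h2, Iso.inv_hom_id_assoc]
  rw [h3]
  infer_instance

theorem isIso_ε_of_torsion (I : Ideal A) [DRing.HasRgammaI I] (K : Dual.D A)
    (hK : ∀ i : ℤ, LocCoh.IsPowerTorsion I (Dual.HD A K i)) :
    IsIso ((DRing.RgammaIε I).app K) := by
  obtain ⟨fs, rfl⟩ := exists_list I
  obtain ⟨E, hE, e, hinj⟩ := exists_res K
  have hT : TorsL fs (Q.obj E) := (TorsL_of_powerTorsion fs K hK).of_iso e
  have h1 := isIso_ε_model fs E hinj hT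
  have hn := (DRing.RgammaIε (spanL fs)).naturality e.hom
  have h2 : (DRing.RgammaIε (spanL fs)).app K =
      (DRing.RgammaI (spanL fs)).map e.hom ≫ (DRing.RgammaIε (spanL fs)).app (Q.obj E) ≫ e.inv := by
    rw [← Category.assoc, hn]
    simp
  rw [h2]
  infer_instance

end Groth.Agent.Lib.Helper2.RGTors
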