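import Groth.Agent.Lib.Helper2.RGTors.HasR
import Groth.Agent.Lib.Helper13.LocFF6

/-!
# Greenlees–May duality over a Noetherian ring
-/

set_option autoImplicit false
universe u

open CategoryTheory CategoryTheory.Limits DerivedCategory Pretriangulated

namespace Groth.Agent.Lib.Helper2.RGTors

open Groth.Agent.Lib.Helper13 Groth.Agent.Lib.Helper2.TorsExt Groth.Agent.Lib.Helper13.Coind
open Groth.Agent.Lib.Helper7.DerivedComplete

attribute [local instance] HasDerivedCategory.standard

variable {A : Type u} [CommRing A]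

/-- No maps from an object on which `f` is bijective to an object with `HomVanish f`. -/
lemma subsingleton_hom_of_BijD_of_HomVanish {f : A} {Z M : Dual.D A} (hZ : BijD f Z)
    (hM : HomVanish f M) : Subsingleton (Z ⟶ M) := by
  have hiso := hZ.isIso_unit
  have horth : Orth A (Localization.Away f) M := (orth_away_iff f M).2 hM
  have h1 := horth ((extD A (Localization.Away f)).obj Z)
  exact (Iso.homCongr (asIso ((extResAdj A (Localization.Away f)).unit.app Z))
    (Iso.refl M)).subsingleton_congr.2 h1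

/-- One step: precomposition with `Γ_{(f) ⊔ I'} X ⟶ Γ_{I'} X` is bijective on maps into
`f`-complete objects. -/
theorem step_bijective' (f : A) (I' : Ideal A) (X : DRing.Cx A) (hX : ∀ j, Good f I' (X.X j))
    (M : Dual.D A) (hM : HomVanish f M) :
    Function.Bijective (fun g : Q.obj ((RG.gamCx I').obj X) ⟶ M =>
      Q.map (inclCx (le_sup_right : I' ≤ Ideal.span {f} ⊔ I') X) ≫ g) := by
  have hT := triangleOfSES_distinguished (stepSC_shortExact f I' X)
  have hB : BijD f (Q.obj (stepSC f I' X).X₃) :=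
    BijD_of_termwise _ (FBij_stepSC_X₃ f I' X hX)
  have h1 : Subsingleton ((triangleOfSES (stepSC_shortExact f I' X)).invRotate.obj₁ ⟶ M) :=
    subsingleton_hom_of_BijD_of_HomVanish (hB.shift (-1)) hM
  have h2 : Subsingleton
      ((triangleOfSES (stepSC_shortExact f I' X)).invRotate.obj₁⟦(1 : ℤ)⟧ ⟶ M) :=
    subsingleton_hom_of_BijD_of_HomVanish ((hB.shift (-1)).shift 1) hM
  exact bijective_precomp_of_distTriang _ (inv_rot_of_distTriang _ hT) M h1 h2

/-- Dual main bijection. -/
theorem homBij' (X : DRing.Cx A) : ∀ (fs : List A), (∀ j, GoodL (X.X j) fs) →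
    ∀ (M : Dual.D A), (∀ f ∈ fs, HomVanish f M) →
      Function.Bijective (fun g : Q.obj X ⟶ M => Q.map (ιCx (spanL fs) X) ≫ g)
  | [], _, M, _ => by
    have h1 := isIso_ιCx_bot X
    have h2 : IsIso (Q.map (ιCx (spanL ([] : List A)) X)) := by
      change IsIso (Q.map (ιCx (⊥ : Ideal A) X))
      infer_instance
    constructor
    · intro α α' h
      exact (cancel_epi _).1 h
    · intro β
      exact ⟨inv (Q.map (ιCx (spanL ([] : List A)) X)) ≫ β, by simp⟩
  | f :: fs, hX, M, hM => by
    have ih := homBij' X fs (fun j => (hX j).2) M (fun g hg => hM g (List.mem_cons_of_mem _ hg))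
    have hs := step_bijective' f (spanL fs) X (fun j => (hX j).1) M (hM f List.mem_cons_self)
    change Function.Bijective (fun g : Q.obj X ⟶ M =>
        Q.map (ιCx (Ideal.span {f} ⊔ spanL fs) X) ≫ g)
    have h1 : Q.map (ιCx (Ideal.span {f} ⊔ spanL fs) X) =
        Q.map (inclCx (le_sup_right : spanL fs ≤ Ideal.span {f} ⊔ spanL fs) X) ≫
          Q.map (ιCx (spanL fs) X) := by
      rw [← Functor.map_comp, inclCx_ιCx]
    have hcomp : (fun g : Q.obj X ⟶ M => Q.map (ιCx (Ideal.span {f} ⊔ spanL fs) X) ≫ g) =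
        (fun g : Q.obj ((RG.gamCx (spanL fs)).obj X) ⟶ M =>
            Q.map (inclCx (le_sup_right : spanL fs ≤ Ideal.span {f} ⊔ spanL fs) X) ≫ g) ∘
          (fun g : Q.obj X ⟶ M => Q.map (ιCx (spanL fs) X) ≫ g) := by
      funext g
      rw [h1]
      simp only [Function.comp_apply, Category.assoc]
    rw [hcomp]
    exact hs.comp ih

lemma bijective_precomp_of_iso {C : Type*} [Category C] {X X' Y' Y M : C} (a : X ⟶ X') (φ : X' ⟶ Y')
    (b : Y' ⟶ Y) [IsIso a] [IsIso b] (h : Function.Bijective (fun g : Y' ⟶ M => φ ≫ g)) :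
    Function.Bijective (fun g : Y ⟶ M => (a ≫ φ ≫ b) ≫ g) := by
  have ha : Function.Bijective (fun g : X' ⟶ M => a ≫ g) :=
    ⟨fun α α' h => (cancel_epi a).1 h, fun γ => ⟨inv a ≫ γ, by simp⟩⟩
  have hb : Function.Bijective (fun g : Y ⟶ M => b ≫ g) :=
    ⟨fun α α' h => (cancel_epi b).1 h, fun γ => ⟨inv b ≫ γ, by simp⟩⟩
  have : (fun g : Y ⟶ M => (a ≫ φ ≫ b) ≫ g) =
      (fun g : X' ⟶ M => a ≫ g) ∘ (fun g : Y' ⟶ M => φ ≫ g) ∘ (fun g : Y ⟶ M => b ≫ g) := by
    funext g
    simp
  rw [this]
  exact ha.comp (h.comp hb)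

section Noeth

variable [IsNoetherianRing A]

/-- Precomposition with `RΓ_I K ⟶ K` is bijective on maps into derived complete objects. -/
theorem bijective_precomp_ε (I : Ideal A) [DRing.HasRgammaI I] (K M : Dual.D A)
    (hM : DRing.IsDerivedComplete I M) :
    Function.Bijective (fun g : K ⟶ M => (DRing.RgammaIε I).app K ≫ g) := by
  obtain ⟨fs, rfl⟩ := exists_list I
  obtain ⟨E, hE, e, hinj⟩ := exists_res K
  have hb := homBij' E fs (goodL_of_injective E hinj fs) M (fun f hf => hM f (mem_spanL hf))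
  rw [RgammaIε_app_eq (spanL fs) K E e]
  exact bijective_precomp_of_iso _ _ _ hb

/-- `(RΓ_I K)^∧ ≅ K^∧`. -/
theorem nonempty_completion_RgammaI_iso (I : Ideal A) [DRing.HasRgammaI I]
    [DRing.HasDerivedCompletion I] (K : Dual.D A) :
    Nonempty ((DRing.derivedCompletion I).obj ((DRing.RgammaI I).obj K) ≅
      (DRing.derivedCompletion I).obj K) := by
  have hiso : IsIso ((DRing.derivedCompletion I).map ((DRing.RgammaIε I).app K)) := by
    rw [isIso_iff_coyoneda_map_bijective]
    intro M
    have hb := bijective_precomp_ε I K M.obj M.property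
    let e1 := (DRing.derivedCompletionAdj I).homEquiv K M
    let e2 := (DRing.derivedCompletionAdj I).homEquiv ((DRing.RgammaI I).obj K) M
    have hcomp : (fun x : (DRing.derivedCompletion I).obj K ⟶ M =>
        (DRing.derivedCompletion I).map ((DRing.RgammaIε I).app K) ≫ x) =
        e2.symm ∘ (fun g : K ⟶ M.obj => (DRing.RgammaIε I).app K ≫ g) ∘ e1 := by
      funext x
      simp only [Function.comp_apply]
      apply e2.injective
      rw [Equiv.apply_symm_apply]
      exact (DRing.derivedCompletionAdj I).homEquiv_naturality_left _ _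
    have hfin := e2.symm.bijective.comp (hb.comp e1.bijective)
    rw [← hcomp] at hfin
    exact hfin
  exact ⟨asIso ((DRing.derivedCompletion I).map ((DRing.RgammaIε I).app K))⟩

end Noeth

end Groth.Agent.Lib.Helper2.RGTors
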