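import Groth.Agent.Lib.Helper2.RGTors.GM

/-!
# Greenlees–May duality, second half: `RΓ_I(K^∧) ≅ RΓ_I(K)`
-/

set_option autoImplicit false
universe u

open CategoryTheory CategoryTheory.Limits DerivedCategory Pretriangulated

namespace Groth.Agent.Lib.Helper2.RGTors

open Groth.Agent.Lib.Helper13 Groth.Agent.Lib.Helper2.TorsExt Groth.Agent.Lib.Helper13.Coind
open Groth.Agent.Lib.Helper7.DerivedComplete

attribute [local instance] HasDerivedCategory.standard

section Univ

variable {D : Type*} [Category D] [Preadditive D] [HasZeroObject D] [HasShift D ℤ]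
  [∀ n : ℤ, (shiftFunctor D n).Additive] [Pretriangulated D]

/-- If `X → K → C → X[1]` is distinguished and `L` has no maps to `X`, `X[1]`, then maps
`L → K` and `L → C` correspond. -/
lemma bijective_postcomp_of_distTriang (T : Triangle D) (hT : T ∈ distTriang D) (L : D)
    (h1 : Subsingleton (L ⟶ T.obj₁)) (h2 : Subsingleton (L ⟶ T.obj₁⟦(1 : ℤ)⟧)) :
    Function.Bijective (fun α : L ⟶ T.obj₂ => α ≫ T.mor₂) := by
  constructor
  · intro α α' h
    have h0 : (α - α') ≫ T.mor₂ = 0 := by
      rw [Preadditive.sub_comp]
      exact sub_eq_zero.2 h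
    obtain ⟨k, hk⟩ := Triangle.coyoneda_exact₂ T hT (α - α') h0
    have : k = 0 := h1.elim _ _
    rw [this, zero_comp] at hk
    exact sub_eq_zero.1 hk
  · intro γ
    obtain ⟨α, hα⟩ := Triangle.coyoneda_exact₃ T hT γ (h2.elim _ _)
    exact ⟨α, hα.symm⟩

end Univ

variable {A : Type u} [CommRing A]

/-- No maps from an `f`-torsion object to an object restricted from `D(A_f)`. -/
lemma subsingleton_hom_restrictD_of_TorsD {f : A} {L : Dual.D A} (hL : TorsD f L)
    (Y : Dual.D (Localization.Away f)) :
    Subsingleton (L ⟶ (DRing.restrictD (algebraMap A (Localization.Away f))).obj Y) := by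
  rw [((extResAdj A (Localization.Away f)).homEquiv L Y).symm.subsingleton_congr]
  exact ⟨fun a b => (isZero_extD_of_TorsD hL).eq_of_src a b⟩

/-- Derived completion along a finite list of elements, with its universal property and the
bijection on maps from torsion objects. -/
theorem exists_completion_list_tors (l : List A) (K : Dual.D A) :
    ∃ (C : Dual.D A) (u : K ⟶ C), (∀ f ∈ l, HomVanish f C) ∧
      (∀ C₀ : Dual.D A, (∀ f ∈ l, HomVanish f C₀) →
        Function.Bijective (fun g : C ⟶ C₀ => u ≫ g)) ∧
      ∀ L : Dual.D A, TorsL l L → Function.Bijective (fun α : L ⟶ K => α ≫ u) := by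
  induction l generalizing K with
  | nil =>
    refine ⟨K, 𝟙 K, by simp, fun C₀ _ => ?_, fun L _ => ?_⟩
    · have : (fun g : K ⟶ C₀ => 𝟙 K ≫ g) = id := by
        funext g
        simp
      rw [this]
      exact Function.bijective_id
    · have : (fun α : L ⟶ K => α ≫ 𝟙 K) = id := by
        funext g
        simp
      rw [this]
      exact Function.bijective_id
  | cons f l ih =>
    obtain ⟨C', u', h1, h2, h3⟩ := ih K
    have hflat : Module.Flat A (Localization.Away f) :=
      IsLocalization.flat (Localization.Away f) (Submonoid.powers f)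
    obtain ⟨C'', u'', w, hT, horth⟩ :=
      exists_step (B := Localization.Away f) (Submonoid.powers f) C'
    refine ⟨C'', u' ≫ u'', ?_, ?_, ?_⟩
    · intro g hg
      rcases List.mem_cons.1 hg with rfl | hg
      · exact (orth_away_iff g C'').1 horth
      · have hg' : HomVanish g C' := h1 g hg
        have h3 : HomVanish g ((DRing.restrictD (algebraMap A (Localization.Away f))).obj
            ((Rco (algebraMap A (Localization.Away f))).obj C')) :=
          (orth_away_iff g _).1 (orth_res_Rco (Localization.Away f) (Submonoid.powers g) C'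
            ((orth_away_iff g C').2 hg'))
        exact HomVanish.of_distTriang₃ _ hT h3 hg'
    · intro C₀ h0
      have hb1 := h2 C₀ (fun g hg => h0 g (List.mem_cons_of_mem _ hg))
      have hf0 : Orth A (Localization.Away f) C₀ :=
        (orth_away_iff f C₀).2 (h0 f List.mem_cons_self)
      have hs1 : Subsingleton (((DRing.restrictD (algebraMap A (Localization.Away f))).obj
          ((Rco (algebraMap A (Localization.Away f))).obj C'))⟦(1 : ℤ)⟧ ⟶ C₀) :=
        (Iso.homCongr (((DRing.restrictD (algebraMap A (Localization.Away f))).commShiftIso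
          (1 : ℤ)).app _) (Iso.refl C₀)).subsingleton_congr.1 (hf0 _)
      have hb2 : Function.Bijective (fun g : C'' ⟶ C₀ => u'' ≫ g) :=
        bijective_precomp_of_distTriang _ hT C₀ (hf0 _) hs1
      have : (fun g : C'' ⟶ C₀ => (u' ≫ u'') ≫ g) =
          (fun h : C' ⟶ C₀ => u' ≫ h) ∘ (fun g : C'' ⟶ C₀ => u'' ≫ g) := by
        funext g
        simp
      rw [this]
      exact hb1.comp hb2
    · intro L hL
      have hb1 := h3 L (fun g hg => hL g (List.mem_cons_of_mem _ hg))
      have hLf : TorsD f L := hL f List.mem_cons_self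
      have hs0 := subsingleton_hom_restrictD_of_TorsD hLf
        ((Rco (algebraMap A (Localization.Away f))).obj C')
      have hs1 : Subsingleton (L ⟶ ((DRing.restrictD (algebraMap A (Localization.Away f))).obj
          ((Rco (algebraMap A (Localization.Away f))).obj C'))⟦(1 : ℤ)⟧) :=
        (Iso.homCongr (Iso.refl L) (((DRing.restrictD (algebraMap A
          (Localization.Away f))).commShiftIso (1 : ℤ)).app _)).subsingleton_congr.1
          (subsingleton_hom_restrictD_of_TorsD hLf _)
      have hb2 : Function.Bijective (fun α : L ⟶ C' => α ≫ u'') :=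
        bijective_postcomp_of_distTriang _ hT L hs0 hs1
      have : (fun α : L ⟶ K => α ≫ u' ≫ u'') =
          (fun α : L ⟶ C' => α ≫ u'') ∘ (fun α : L ⟶ K => α ≫ u') := by
        funext g
        simp
      rw [this]
      exact hb2.comp hb1

lemma spanL_toList (s : Finset A) : spanL s.toList = Ideal.span (s : Set A) := by
  rw [spanL_eq]
  congr 1
  ext x
  simp

variable [IsNoetherianRing A]

/-- Postcomposition with `K ⟶ K^∧` is bijective on maps from torsion objects. -/
theorem bijective_postcomp_η (I : Ideal A) [DRing.HasDerivedCompletion I] (K L : Dual.D A)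
    (hL : PT I L) :
    Function.Bijective (fun α : L ⟶ K => α ≫ DRing.toDerivedCompletion I K) := by
  obtain ⟨s, hs⟩ := (IsNoetherian.noetherian I : I.FG)
  have hsp : spanL s.toList = I := (spanL_toList s).trans hs
  have key := isDerivedComplete_iff_of_span I s hs
  obtain ⟨C, u, hC, huniv, htors⟩ := exists_completion_list_tors s.toList K
  have hCc : DRing.IsDerivedComplete I C := (key C).2 hC
  have hLt : TorsL s.toList L := by
    have hL' : ∀ i : ℤ, LocCoh.IsPowerTorsion (spanL s.toList) (Dual.HD A L i) := by
      rw [hsp]; exact hL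
    exact TorsL_of_powerTorsion s.toList L hL'
  let Lc := (DRing.derivedCompletion I).obj K
  let η : K ⟶ Lc.obj := DRing.toDerivedCompletion I K
  obtain ⟨g, hg⟩ := (huniv Lc.obj ((key _).1 Lc.property)).2 η
  have hg' : u ≫ g = η := hg
  let C' : DRing.DComp I := ⟨C, hCc⟩
  let g'' : Lc ⟶ C' := ((DRing.derivedCompletionAdj I).homEquiv K C').symm u
  have hg'' : η ≫ g''.hom = u := by
    have := ((DRing.derivedCompletionAdj I).homEquiv K C').apply_symm_apply u
    rw [Adjunction.homEquiv_unit] at this
    exact this
  have hiso : IsIso g := by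
    refine ⟨g''.hom, ?_, ?_⟩
    · apply (huniv C hC).1
      change u ≫ g ≫ g''.hom = u ≫ 𝟙 C
      rw [← Category.assoc, hg', hg'', Category.comp_id]
    · have h1 : g'' ≫ (ObjectProperty.homMk g : C' ⟶ Lc) = 𝟙 Lc := by
        apply ((DRing.derivedCompletionAdj I).homEquiv K Lc).injective
        rw [Adjunction.homEquiv_unit, Adjunction.homEquiv_unit]
        change η ≫ (g''.hom ≫ g) = η ≫ 𝟙 _
        rw [← Category.assoc, hg'', hg', Category.comp_id]
      exact congrArg (fun m => (ObjectProperty.ι (DRing.IsDerivedComplete I)).map m) h1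
  have hb1 := htors L hLt
  have hb2 : Function.Bijective (fun α : L ⟶ C => α ≫ g) :=
    ⟨fun α α' h => (cancel_mono g).1 h, fun γ => ⟨γ ≫ inv g, by simp⟩⟩
  have : (fun α : L ⟶ K => α ≫ DRing.toDerivedCompletion I K) =
      (fun α : L ⟶ C => α ≫ g) ∘ (fun α : L ⟶ K => α ≫ u) := by
    funext α
    change α ≫ η = (α ≫ u) ≫ g
    rw [Category.assoc, hg']
  rw [this]
  exact hb2.comp hb1

/-- `RΓ_I(K^∧) ≅ RΓ_I(K)`. -/
theorem nonempty_RgammaI_completion_iso (I : Ideal A) [DRing.HasRgammaI I]
    [DRing.HasDerivedCompletion I] (K : Dual.D A) :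
    Nonempty ((DRing.RgammaI I).obj ((DRing.derivedCompletion I).obj K).obj ≅
      (DRing.RgammaI I).obj K) := by
  let η := DRing.toDerivedCompletion I K
  have hiso : IsIso ((DRing.RgammaI I).map η) := by
    apply isIso_of_bijective_comp _ (PT I) (PT_RgammaI I K) (PT_RgammaI I _)
    intro L hL
    have hε1 := bijective_comp_ε I L K hL
    have hε2 := bijective_comp_ε I L ((DRing.derivedCompletion I).obj K).obj hL
    have hη := bijective_postcomp_η I K L hL
    have hn := (DRing.RgammaIε I).naturality η
    have hcomp : (fun β : L ⟶ (DRing.RgammaI I).obj ((DRing.derivedCompletion I).obj K).obj =>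
          β ≫ (DRing.RgammaIε I).app _) ∘
        (fun α : L ⟶ (DRing.RgammaI I).obj K => α ≫ (DRing.RgammaI I).map η) =
        (fun α : L ⟶ K => α ≫ η) ∘
          (fun α : L ⟶ (DRing.RgammaI I).obj K => α ≫ (DRing.RgammaIε I).app K) := by
      funext α
      simp only [Function.comp_apply, Category.assoc]
      rw [hn]
      rfl
    have h3 : Function.Bijective
        ((fun β : L ⟶ (DRing.RgammaI I).obj ((DRing.derivedCompletion I).obj K).obj =>
          β ≫ (DRing.RgammaIε I).app _) ∘
        (fun α : L ⟶ (DRing.RgammaI I).obj K => α ≫ (DRing.RgammaI I).map η)) := by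
      rw [hcomp]
      exact hη.comp hε1
    exact (Function.Bijective.of_comp_iff' hε2 _).1 h3
  exact ⟨(asIso ((DRing.RgammaI I).map η)).symm⟩

end Groth.Agent.Lib.Helper2.RGTors
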