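import Groth.Agent.Lib.Helper2.RGTors.Resol

/-!
# `RΓ_I` is right adjoint to the inclusion of objects with `I`-power torsion cohomology
-/

set_option autoImplicit false
universe u

open CategoryTheory CategoryTheory.Limits DerivedCategory Pretriangulated

namespace Groth.Agent.Lib.Helper2.RGTors

open Groth.Agent.Lib.Helper13 Groth.Agent.Lib.Helper2.TorsExt

attribute [local instance] HasDerivedCategory.standard

variable {A : Type u} [CommRing A]

/-- The object property: `I`-power torsion cohomology. -/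
abbrev PT (I : Ideal A) : ObjectProperty (Dual.D A) :=
  fun L : Dual.D A => ∀ i : ℤ, LocCoh.IsPowerTorsion I (Dual.HD A L i)

lemma bijective_comp_of_iso {C : Type*} [Category C] {L X X' Y' Y : C} (a : X ⟶ X') (φ : X' ⟶ Y')
    (b : Y' ⟶ Y) [IsIso a] [IsIso b] (h : Function.Bijective (fun β : L ⟶ X' => β ≫ φ)) :
    Function.Bijective (fun α : L ⟶ X => α ≫ a ≫ φ ≫ b) := by
  have ha : Function.Bijective (fun α : L ⟶ X => α ≫ a) :=
    ⟨fun α α' h => (cancel_mono a).1 h, fun γ => ⟨γ ≫ inv a, by simp⟩⟩
  have hb : Function.Bijective (fun α : L ⟶ Y' => α ≫ b) :=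
    ⟨fun α α' h => (cancel_mono b).1 h, fun γ => ⟨γ ≫ inv b, by simp⟩⟩
  have : (fun α : L ⟶ X => α ≫ a ≫ φ ≫ b) =
      (fun α : L ⟶ Y' => α ≫ b) ∘ (fun β : L ⟶ X' => β ≫ φ) ∘ (fun α : L ⟶ X => α ≫ a) := by
    funext α
    simp
  rw [this]
  exact hb.comp (h.comp ha)

variable [IsNoetherianRing A]

lemma RgammaIε_app_eq (I : Ideal A) [DRing.HasRgammaI I] (K : Dual.D A) (E : DRing.Cx A)
    [E.IsKInjective] (e : K ≅ Q.obj E) :
    (DRing.RgammaIε I).app K =
      ((DRing.RgammaI I).map e.hom ≫ (RG.RgamIso I E).inv) ≫ Q.map (ιCx I E) ≫ e.inv := by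
  have hn := (DRing.RgammaIε I).naturality e.hom
  have h2 := RgamIso_hom_ε I E
  have h3 : (DRing.RgammaIε I).app (Q.obj E) = (RG.RgamIso I E).inv ≫ Q.map (ιCx I E) := by
    rw [← h2, Iso.inv_hom_id_assoc]
  have h4 : (DRing.RgammaIε I).app K =
      (DRing.RgammaI I).map e.hom ≫ (DRing.RgammaIε I).app (Q.obj E) ≫ e.inv := by
    rw [← Category.assoc, hn]
    simp
  rw [h4, h3]
  simp

/-- `RΓ_I K` has `I`-power torsion cohomology. -/
theorem PT_RgammaI (I : Ideal A) [DRing.HasRgammaI I] (K : Dual.D A) :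
    PT I ((DRing.RgammaI I).obj K) := by
  obtain ⟨fs, rfl⟩ := exists_list I
  obtain ⟨E, hE, e, hinj⟩ := exists_res K
  have h1 : TorsL fs ((DRing.RgammaI (spanL fs)).obj K) :=
    (TorsL_gamCx fs E).of_iso ((RG.RgamIso (spanL fs) E) ≪≫ (DRing.RgammaI (spanL fs)).mapIso e.symm)
  exact powerTorsion_of_TorsL fs _ h1

/-- The basic bijection. -/
theorem bijective_comp_ε (I : Ideal A) [DRing.HasRgammaI I] (L K : Dual.D A) (hL : PT I L) :
    Function.Bijective (fun α : L ⟶ (DRing.RgammaI I).obj K => α ≫ (DRing.RgammaIε I).app K) := by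
  obtain ⟨fs, rfl⟩ := exists_list I
  obtain ⟨E, hE, e, hinj⟩ := exists_res K
  have hb := homBij E fs (goodL_of_injective E hinj fs) L (TorsL_of_powerTorsion fs L hL)
  rw [RgammaIε_app_eq (spanL fs) K E e]
  exact bijective_comp_of_iso _ _ _ hb

/-- The adjunction. -/
noncomputable def adj (I : Ideal A) [DRing.HasRgammaI I]
    (h : ∀ K : Dual.D A, PT I ((DRing.RgammaI I).obj K)) :
    ObjectProperty.ι (PT I) ⊣ ObjectProperty.lift (PT I) (DRing.RgammaI I) h :=
  Adjunction.mkOfHomEquiv
    { homEquiv := fun L K =>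
        (Equiv.ofBijective _ (bijective_comp_ε I L.obj K L.property)).symm.trans
          ((PT I).fullyFaithfulι.homEquiv (X := L)
            (Y := (ObjectProperty.lift (PT I) (DRing.RgammaI I) h).obj K)).symm
      homEquiv_naturality_left_symm := by
        intro L' L K f g
        simp only [Equiv.symm_trans_apply, Equiv.symm_symm, Equiv.ofBijective_apply]
        simp [Functor.FullyFaithful.homEquiv]
      homEquiv_naturality_right := by
        intro L K K' f g
        apply ((Equiv.ofBijective _ (bijective_comp_ε I L.obj K' L.property)).symm.trans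
          ((PT I).fullyFaithfulι.homEquiv (X := L)
            (Y := (ObjectProperty.lift (PT I) (DRing.RgammaI I) h).obj K')).symm).symm.injective
        rw [Equiv.symm_apply_apply]
        simp only [Equiv.symm_trans_apply, Equiv.symm_symm, Equiv.ofBijective_apply]
        have hn := (DRing.RgammaIε I).naturality g
        simp only [Functor.id_obj, Functor.id_map] at hn
        simp only [Functor.FullyFaithful.homEquiv, Equiv.coe_fn_mk, ObjectProperty.ι_map,
          ObjectProperty.FullSubcategory.comp_hom, ObjectProperty.lift_map,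
          ObjectProperty.homMk_hom, Category.assoc, hn]
        rw [← Category.assoc]
        congr 1
        exact ((Equiv.ofBijective _ (bijective_comp_ε I L.obj K L.property)).apply_symm_apply f).symm }

end Groth.Agent.Lib.Helper2.RGTors
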