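import Groth.Agent.Lib.Helper2.RGTors.Adj

/-!
# `RΓ_J ∘ RΓ_I ≅ RΓ_{I ⊔ J}` over a Noetherian ring
-/

set_option autoImplicit false
universe u

open CategoryTheory CategoryTheory.Limits DerivedCategory Pretriangulated

namespace Groth.Agent.Lib.Helper2.RGTors

open Groth.Agent.Lib.Helper13 Groth.Agent.Lib.Helper2.TorsExt

attribute [local instance] HasDerivedCategory.standard

variable {A : Type u} [CommRing A]

section modules

variable (I J : Ideal A) (M : Type u) [AddCommGroup M] [Module A M]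

/-- `Γ_{I ⊔ J} M → Γ_J (Γ_I M)`. -/
def supToComp : DRing.torsionSub (I ⊔ J) M →ₗ[A] DRing.torsionSub J (DRing.torsionSub I M) where
  toFun x := ⟨⟨x.1, torsionSub_anti M le_sup_left x.2⟩, by
    obtain ⟨n, hn⟩ := torsionSub_anti M (le_sup_right : J ≤ I ⊔ J) x.2
    exact ⟨n, fun a ha => Subtype.ext (hn a ha)⟩⟩
  map_add' _ _ := rfl
  map_smul' _ _ := rfl

lemma supToComp_bijective : Function.Bijective (supToComp I J M) := by
  constructor
  · intro x y h
    apply Subtype.ext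
    exact congrArg (fun z => (z.1.1 : M)) h
  · intro y
    have h1 : (y.1.1 : M) ∈ DRing.torsionSub (I ⊔ J) M := by
      rw [torsionSub_sup_eq_inf]
      refine ⟨y.1.2, ?_⟩
      obtain ⟨n, hn⟩ := y.2
      exact ⟨n, fun a ha => congrArg Subtype.val (hn a ha)⟩
    exact ⟨⟨y.1.1, h1⟩, rfl⟩

end modules

/-- `Γ_{I ⊔ J} X ⟶ Γ_J (Γ_I X)` on complexes. -/
noncomputable def supToCompCx (I J : Ideal A) (X : DRing.Cx A) :
    (RG.gamCx (I ⊔ J)).obj X ⟶ (RG.gamCx J).obj ((RG.gamCx I).obj X) where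
  f j := ModuleCat.ofHom (supToComp I J (X.X j))
  comm' i j _ := rfl

instance isIso_supToCompCx (I J : Ideal A) (X : DRing.Cx A) : IsIso (supToCompCx I J X) := by
  have : ∀ j, IsIso ((supToCompCx I J X).f j) := by
    intro j
    rw [ConcreteCategory.isIso_iff_bijective]
    exact supToComp_bijective I J (X.X j)
  exact HomologicalComplex.Hom.isIso_of_components _

variable [IsNoetherianRing A]

lemma injective_gamCx (I : Ideal A) (E : DRing.Cx A) (hE : ∀ n, Module.Injective A (E.X n))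
    (n : ℤ) : Module.Injective A (((RG.gamCx I).obj E).X n) :=
  Groth.Agent.Lib.Helper16.LC.injective_torsionSub I (E.X n) (hE n)

theorem nonempty_comp_iso (I J : Ideal A) [DRing.HasRgammaI I] [DRing.HasRgammaI J]
    [DRing.HasRgammaI (I ⊔ J)] (K : Dual.D A) :
    Nonempty ((DRing.RgammaI J).obj ((DRing.RgammaI I).obj K) ≅ (DRing.RgammaI (I ⊔ J)).obj K) := by
  obtain ⟨gs, rfl⟩ := exists_list J
  obtain ⟨E, hE, e, hinj⟩ := exists_res K
  -- `RΓ_I K ≅ Q(Γ_I E)`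
  let e1 : (DRing.RgammaI I).obj K ≅ Q.obj ((RG.gamCx I).obj E) :=
    (DRing.RgammaI I).mapIso e ≪≫ (RG.RgamIso I E).symm
  -- resolve `Γ_I E`
  obtain ⟨E', g, hE', hg, hinj'⟩ := exists_res_cx ((RG.gamCx I).obj E)
  have hg' : IsIso (Q.map g) := by
    rw [DerivedCategory.isIso_Q_map_iff_quasiIso]; exact hg
  have hinjX := injective_gamCx I E hinj
  have h2 : IsIso (Q.map ((RG.gamCx (spanL gs)).map g)) :=
    isIso_Q_map_gamCx g gs (goodL_of_injective _ hinjX gs) (goodL_of_injective _ hinj' gs) hg'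
  let e2 : (DRing.RgammaI (spanL gs)).obj (Q.obj ((RG.gamCx I).obj E)) ≅
      Q.obj ((RG.gamCx (spanL gs)).obj ((RG.gamCx I).obj E)) :=
    (DRing.RgammaI (spanL gs)).mapIso (asIso (Q.map g)) ≪≫ (RG.RgamIso (spanL gs) E').symm ≪≫
      (asIso (Q.map ((RG.gamCx (spanL gs)).map g))).symm
  let e3 : Q.obj ((RG.gamCx (spanL gs)).obj ((RG.gamCx I).obj E)) ≅
      Q.obj ((RG.gamCx (I ⊔ spanL gs)).obj E) :=
    (Q.mapIso (asIso (supToCompCx I (spanL gs) E))).symm
  let e4 : Q.obj ((RG.gamCx (I ⊔ spanL gs)).obj E) ≅ (DRing.RgammaI (I ⊔ spanL gs)).obj K :=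
    RG.RgamIso (I ⊔ spanL gs) E ≪≫ (DRing.RgammaI (I ⊔ spanL gs)).mapIso e.symm
  exact ⟨(DRing.RgammaI (spanL gs)).mapIso e1 ≪≫ e2 ≪≫ e3 ≪≫ e4⟩

end Groth.Agent.Lib.Helper2.RGTors
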