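import Groth.Agent.Lib.Helper2.RGTors.HomBij

/-!
# The canonical map `RΓ_I ⟶ 𝟭` on the K-injective model
-/

set_option autoImplicit false
universe u

open CategoryTheory CategoryTheory.Limits DerivedCategory Pretriangulated

namespace Groth.Agent.Lib.Helper2.RGTors

open Groth.Agent.Lib.Helper13

attribute [local instance] HasDerivedCategory.standard

variable {A : Type u} [CommRing A] (I : Ideal A)

lemma ιCx_eq (J : DRing.Cx A) :
    (NatTrans.mapHomologicalComplex (DRing.gammaIι I) (ComplexShape.up ℤ)).app J ≫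
      (Functor.mapHomologicalComplexIdIso (ModuleCat.{u} A) (ComplexShape.up ℤ)).hom.app J =
      ιCx I J := by
  ext j x
  rfl

lemma gammaIτ_app (J : DRing.Cx A) :
    (DRing.gammaIτ I).app ((HomotopyCategory.quotient _ _).obj J) =
      Qh.map (((DRing.gammaI I).mapHomotopyCategoryFactors (ComplexShape.up ℤ)).hom.app J) ≫
        Q.map (ιCx I J) := by
  have h1 : (DRing.gammaIτ I).app ((HomotopyCategory.quotient _ _).obj J) =
      (DRing.gammaIτ0 I).app J := Quotient.natTransLift_app _ _ _ (DRing.gammaIτ0 I) J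
  rw [h1]
  dsimp [DRing.gammaIτ0]
  simp only [Category.id_comp, Category.comp_id]
  rw [← ιCx_eq I J]
  change _ = Qh.map _ ≫ Qh.map ((HomotopyCategory.quotient _ _).map _)
  simp only [Functor.map_comp]

variable [DRing.HasRgammaI I]

lemma RgamIso_hom_ε (J : DRing.Cx A) [J.IsKInjective] :
    (RG.RgamIso I J).hom ≫ (DRing.RgammaIε I).app (Q.obj J) = Q.map (ιCx I J) := by
  have h := Functor.rightDerived_fac_app (DRing.RgammaI I) (RG.unitR I)
    (HomotopyCategory.quasiIso (ModuleCat.{u} A) (ComplexShape.up ℤ)) (𝟭 (Dual.D A))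
    (DRing.gammaIτ I ≫ (Functor.rightUnitor _).inv) ((HomotopyCategory.quotient _ _).obj J)
  have h2 : (RG.unitR I).app ((HomotopyCategory.quotient _ _).obj J) ≫
      (DRing.RgammaIε I).app (Q.obj J) =
      (DRing.gammaIτ I).app ((HomotopyCategory.quotient _ _).obj J) := by
    refine h.trans ?_
    simp
  dsimp only [RG.RgamIso, Iso.trans_hom, Functor.mapIso_hom, Iso.symm_hom, asIso_hom, Iso.app_inv]
  rw [Category.assoc]
  refine (congrArg (fun t => Qh.map (((DRing.gammaI I).mapHomotopyCategoryFactors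
    (ComplexShape.up ℤ)).inv.app J) ≫ t) h2).trans ?_
  rw [gammaIτ_app, ← Category.assoc, ← Functor.map_comp]
  simp
  rfl

end Groth.Agent.Lib.Helper2.RGTors
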