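import Groth.Agent.Lib.Helper2.RGTors.Restrict
import Groth.Agent.Lib.Helper13.ShriekCoh
import Groth.Agent.Lib.Helper16.LocCohFlatGamma

/-!
# `HDI` and flat base change
-/

set_option autoImplicit false
universe u

open CategoryTheory CategoryTheory.Limits DerivedCategory Pretriangulated TensorProduct

namespace Groth.Agent.Lib.Helper2.RGTors

open Groth.Agent.Lib.Helper13 Groth.Agent.Lib.Helper2.TorsExt Groth.Agent.Lib.Helper13.DR

attribute [local instance] HasDerivedCategory.standard

variable (A B : Type u) [CommRing A] [CommRing B] [Algebra A B]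

lemma spanL_map : ∀ fs : List A,
    spanL (fs.map (algebraMap A B)) = (spanL fs).map (algebraMap A B)
  | [] => by simp [spanL]
  | f :: fs => by
    rw [List.map_cons, spanL, spanL, Ideal.map_sup, Ideal.map_span, spanL_map fs]
    simp

section algebra

variable {A B} (I : Ideal A) (M : Type u) [AddCommGroup M] [Module A M]

/-- Goodness is preserved by flat base change (for extended elements and ideals): plain tensor
product version. -/
lemma good_tensor [IsNoetherianRing A] [Module.Flat A B] (f : A) (hM : Good f I M) :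
    Good (algebraMap A B f) (I.map (algebraMap A B)) (B ⊗[A] M) := by
  intro x hx
  rw [← Groth.Agent.Lib.Helper16.DTL.range_baseChange_torsionSub (R' := B) I M] at hx
  obtain ⟨w, rfl⟩ := hx
  have key : ∃ (s : B ⊗[A] (DRing.torsionSub I M)) (n : ℕ),
      (algebraMap A B f) ^ n • (w - (algebraMap A B f) • s) = 0 := by
    induction w using TensorProduct.induction_on with
    | zero => exact ⟨0, 0, by simp⟩
    | tmul b m =>
      obtain ⟨y, hy, n, hn⟩ := hM m.1 m.2
      refine ⟨b ⊗ₜ[A] (⟨y, hy⟩ : DRing.torsionSub I M), n, ?_⟩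
      have h1 : ∀ (a : A) (m' : DRing.torsionSub I M),
          (algebraMap A B a) • (b ⊗ₜ[A] m' : B ⊗[A] (DRing.torsionSub I M)) = b ⊗ₜ[A] (a • m') := by
        intro a m'
        rw [TensorProduct.smul_tmul', algebraMap_smul, TensorProduct.smul_tmul]
      rw [h1, ← TensorProduct.tmul_sub, ← map_pow, h1]
      have : f ^ n • (m - f • (⟨y, hy⟩ : DRing.torsionSub I M)) = 0 := Subtype.ext hn
      rw [this, TensorProduct.tmul_zero]
    | add w₁ w₂ h₁ h₂ =>
      obtain ⟨s₁, n₁, hn₁⟩ := h₁
      obtain ⟨s₂, n₂, hn₂⟩ := h₂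
      refine ⟨s₁ + s₂, n₁ + n₂, ?_⟩
      have e : w₁ + w₂ - algebraMap A B f • (s₁ + s₂) =
          (w₁ - algebraMap A B f • s₁) + (w₂ - algebraMap A B f • s₂) := by
        rw [smul_add]; abel
      have a1 : (algebraMap A B f) ^ (n₁ + n₂) • (w₁ - algebraMap A B f • s₁) = 0 := by
        rw [pow_add, mul_comm, mul_smul, hn₁, smul_zero]
      have a2 : (algebraMap A B f) ^ (n₁ + n₂) • (w₂ - algebraMap A B f • s₂) = 0 := by
        rw [pow_add, mul_smul, hn₂, smul_zero]
      rw [e, smul_add, a1, a2, add_zero]
  obtain ⟨s, n, hn⟩ := key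
  refine ⟨(DRing.torsionSub I M).subtype.baseChange B s, ?_, n, ?_⟩
  · rw [← Groth.Agent.Lib.Helper16.DTL.range_baseChange_torsionSub (R' := B) I M]
    exact ⟨s, rfl⟩
  · rw [← map_smul, ← map_sub, ← map_smul, hn, map_zero]

end algebra


section modules

variable {A B} (I : Ideal A) (M : ModuleCat.{u} A)

/-- extension of scalars, abbreviated -/
noncomputable abbrev ext : ModuleCat.{u} A ⥤ ModuleCat.{u} B :=
  ModuleCat.extendScalars.{u, u, u} (algebraMap A B)

lemma extendScalarsEquiv_map {M N : ModuleCat.{u} A} (g : M ⟶ N)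
    (w : (ext (A := A) (B := B)).obj M) :
    extendScalarsEquiv B N (((ext (A := A) (B := B)).map g).hom w) =
      (g.hom.baseChange B) (extendScalarsEquiv B M w) := by
  have h : (ext (A := A) (B := B)).map g ≫ (extendScalarsIso B N).hom =
      (extendScalarsIso B M).hom ≫ ModuleCat.ofHom (g.hom.baseChange B) := by
    apply ModuleCat.ExtendScalars.hom_ext
    intro m
    rfl
  exact congrArg (fun t => t.hom w) h

lemma good_ext [IsNoetherianRing A] [Module.Flat A B] (f : A) (hM : Good f I M) :
    Good (algebraMap A B f) (I.map (algebraMap A B)) ((ext (A := A) (B := B)).obj M) :=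
  (good_tensor I M f hM).of_linearEquiv (extendScalarsEquiv B M).symm

lemma goodL_ext [IsNoetherianRing A] [Module.Flat A B] (hM : GoodAll A M) :
    ∀ fs : List A, GoodL ((ext (A := A) (B := B)).obj M) (fs.map (algebraMap A B))
  | [] => trivial
  | f :: fs => by
    refine ⟨?_, goodL_ext hM fs⟩
    rw [spanL_map]
    exact good_ext (spanL fs) M f (hM f (spanL fs))

variable [IsNoetherianRing A] [Module.Flat A B]

lemma mem_torsionSub_ext_iff (z : (ext (A := A) (B := B)).obj M) :
    z ∈ DRing.torsionSub (I.map (algebraMap A B)) ((ext (A := A) (B := B)).obj M) ↔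
      ∃ w : (ext (A := A) (B := B)).obj ((DRing.gammaI I).obj M),
        ((ext (A := A) (B := B)).map ((DRing.gammaIι I).app M)).hom w = z := by
  have h16 := Groth.Agent.Lib.Helper16.DTL.range_baseChange_torsionSub (R' := B) I M
  have h1 : z ∈ DRing.torsionSub (I.map (algebraMap A B)) ((ext (A := A) (B := B)).obj M) ↔
      extendScalarsEquiv B M z ∈ DRing.torsionSub (I.map (algebraMap A B)) (B ⊗[A] M) := by
    constructor
    · intro h
      exact DRing.map_mem_torsionSub _ (extendScalarsEquiv B M).toLinearMap h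
    · intro h
      have := DRing.map_mem_torsionSub _ (extendScalarsEquiv B M).symm.toLinearMap h
      simpa using this
  rw [h1, ← h16]
  constructor
  · rintro ⟨t, ht⟩
    refine ⟨(extendScalarsEquiv B ((DRing.gammaI I).obj M)).symm t, ?_⟩
    apply (extendScalarsEquiv B M).injective
    rw [extendScalarsEquiv_map, LinearEquiv.apply_symm_apply]
    exact ht
  · rintro ⟨w, rfl⟩
    refine ⟨extendScalarsEquiv B ((DRing.gammaI I).obj M) w, ?_⟩
    rw [extendScalarsEquiv_map]
    rfl

omit [IsNoetherianRing A] in
lemma ext_map_ι_injective :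
    Function.Injective ((ext (A := A) (B := B)).map ((DRing.gammaIι I).app M)).hom := by
  have : Mono ((DRing.gammaIι I).app M) := by
    rw [ModuleCat.mono_iff_injective]
    exact Subtype.val_injective
  have h2 : Mono ((ext (A := A) (B := B)).map ((DRing.gammaIι I).app M)) := inferInstance
  exact (ModuleCat.mono_iff_injective _).1 h2

/-- `B ⊗ Γ_I M → Γ_{IB}(B ⊗ M)` as a linear map. -/
noncomputable def extGamLin :
    ((ext (A := A) (B := B)).obj ((DRing.gammaI I).obj M)) →ₗ[B]
      DRing.torsionSub (I.map (algebraMap A B)) ((ext (A := A) (B := B)).obj M) :=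
  LinearMap.codRestrict
    (DRing.torsionSub (I.map (algebraMap A B)) ((ext (A := A) (B := B)).obj M))
    ((ext (A := A) (B := B)).map ((DRing.gammaIι I).app M)).hom
    (fun w => (mem_torsionSub_ext_iff I M _).2 ⟨w, rfl⟩)

lemma extGamLin_coe (w : (ext (A := A) (B := B)).obj ((DRing.gammaI I).obj M)) :
    ((extGamLin (B := B) I M w : DRing.torsionSub (I.map (algebraMap A B))
      ((ext (A := A) (B := B)).obj M)) : (ext (A := A) (B := B)).obj M) =
      ((ext (A := A) (B := B)).map ((DRing.gammaIι I).app M)).hom w := rfl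

lemma extGamLin_bijective : Function.Bijective (extGamLin (B := B) I M) := by
  constructor
  · intro x y h
    apply ext_map_ι_injective (B := B) I M
    rw [← extGamLin_coe, ← extGamLin_coe, h]
  · intro y
    obtain ⟨w, hw⟩ := (mem_torsionSub_ext_iff I M _).1 y.2
    exact ⟨w, Subtype.ext hw⟩

/-- `B ⊗ Γ_I M ⟶ Γ_{IB}(B ⊗ M)`. -/
noncomputable def extGam :
    (ext (A := A) (B := B)).obj ((DRing.gammaI I).obj M) ⟶
      (DRing.gammaI (I.map (algebraMap A B))).obj ((ext (A := A) (B := B)).obj M) :=
  show ModuleCat.of B ((ext (A := A) (B := B)).obj ((DRing.gammaI I).obj M)) ⟶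
      ModuleCat.of B (DRing.torsionSub (I.map (algebraMap A B))
        ((ext (A := A) (B := B)).obj M)) from
    ModuleCat.ofHom (extGamLin (B := B) I M)

lemma extGam_hom_apply (w : (ext (A := A) (B := B)).obj ((DRing.gammaI I).obj M)) :
    (extGam (B := B) I M).hom w = extGamLin (B := B) I M w := rfl

lemma extGam_bijective : Function.Bijective (extGam (B := B) I M).hom :=
  extGamLin_bijective I M

end modules

section complexes

variable {A B} [IsNoetherianRing A] [Module.Flat A B]

/-- `B ⊗ Γ_I E ⟶ Γ_{IB}(B ⊗ E)` on complexes. -/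
noncomputable def extGamCx (I : Ideal A) (E : DRing.Cx A) :
    (extendCx A B).obj ((RG.gamCx I).obj E) ⟶
      (RG.gamCx (I.map (algebraMap A B))).obj ((extendCx A B).obj E) where
  f j := extGam (B := B) I (E.X j)
  comm' i j _ := by
    apply ModuleCat.hom_ext
    apply LinearMap.ext
    intro x
    apply Subtype.ext
    have h1 : (ext (A := A) (B := B)).map ((DRing.gammaI I).map (E.d i j)) ≫
        (ext (A := A) (B := B)).map ((DRing.gammaIι I).app (E.X j)) =
        (ext (A := A) (B := B)).map ((DRing.gammaIι I).app (E.X i)) ≫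
          (ext (A := A) (B := B)).map (E.d i j) := by
      rw [← Functor.map_comp, ← Functor.map_comp]
      congr 1
    exact (congrArg (fun t => t.hom x) h1).symm

instance isIso_extGamCx (I : Ideal A) (E : DRing.Cx A) : IsIso (extGamCx (B := B) I E) := by
  have : ∀ j, IsIso ((extGamCx (B := B) I E).f j) := by
    intro j
    rw [ConcreteCategory.isIso_iff_bijective]
    exact extGam_bijective I (E.X j)
  exact HomologicalComplex.Hom.isIso_of_components _

end complexes

end Groth.Agent.Lib.Helper2.RGTors
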