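import Groth.Agent.Lib.Helper2.RGTors.FlatBC

/-!
# `HDI` and flat base change: the main statement
-/

set_option autoImplicit false
universe u

open CategoryTheory CategoryTheory.Limits DerivedCategory Pretriangulated TensorProduct

namespace Groth.Agent.Lib.Helper2.RGTors

open Groth.Agent.Lib.Helper13 Groth.Agent.Lib.Helper2.TorsExt Groth.Agent.Lib.Helper13.DR

attribute [local instance] HasDerivedCategory.standard

variable {A B : Type u} [CommRing A] [CommRing B] [Algebra A B]

section extendEquiv

variable {H : ModuleCat.{u} A} {N : ModuleCat.{u + 1} A} (e : H ≃ₗ[A] N)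

set_option backward.isDefEq.respectTransparency false in
lemma congr_smul' (s : B)
    (z : ((ModuleCat.restrictScalars (algebraMap A B)).obj (ModuleCat.of B B)) ⊗[A] H) :
    (TensorProduct.congr (LinearEquiv.refl A
      ((ModuleCat.restrictScalars (algebraMap A B)).obj (ModuleCat.of B B))) e) (s • z) =
      s • (TensorProduct.congr (LinearEquiv.refl A
        ((ModuleCat.restrictScalars (algebraMap A B)).obj (ModuleCat.of B B))) e) z := by
  induction z using TensorProduct.induction_on with
  | zero => rw [smul_zero, map_zero, smul_zero]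
  | tmul s' m => rfl
  | add x y hx hy => rw [smul_add, map_add, map_add, smul_add, hx, hy]

set_option backward.isDefEq.respectTransparency false in
/-- Extension of scalars of a linear equivalence across universes. -/
noncomputable def extendEquiv :
    ((ModuleCat.extendScalars.{u, u, u} (algebraMap A B)).obj H) ≃ₗ[B]
      ((ModuleCat.extendScalars.{u, u, u + 1} (algebraMap A B)).obj N) :=
  { (TensorProduct.congr (LinearEquiv.refl A
      ((ModuleCat.restrictScalars (algebraMap A B)).obj (ModuleCat.of B B))) e).toAddEquiv with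
    map_smul' := congr_smul' e }

end extendEquiv

variable [IsNoetherianRing A] [IsNoetherianRing B] [Module.Flat A B]

theorem nonempty_HDI_flat_iso [DRing.HasLBaseChange (algebraMap A B)] (I : Ideal A)
    (K : Dual.D A) (i : ℤ) :
    Nonempty (Dual2.HDI B (I.map (algebraMap A B)) ((DRing.LBaseChange (algebraMap A B)).obj K) i ≅
      (ModuleCat.extendScalars (algebraMap A B)).obj (Dual2.HDI A I K i)) := by
  obtain ⟨fs, rfl⟩ := exists_list I
  obtain ⟨E, hE, e, hinj⟩ := exists_res K
  let X : DRing.Cx B := (extendCx A B).obj E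
  obtain ⟨E'', g, hE'', hg, hinj''⟩ := exists_res_cx X
  have hg' : IsIso (Q.map g) := by
    rw [DerivedCategory.isIso_Q_map_iff_quasiIso]; exact hg
  let e'' : (DRing.LBaseChange (algebraMap A B)).obj K ≅ Q.obj E'' :=
    (Shriek.LBaseChangeFlatIso A B).app K ≪≫ (flatBC A B).mapIso e ≪≫ flatBCQIso A B E ≪≫
      asIso (Q.map g)
  have hspan : (spanL fs).map (algebraMap A B) = spanL (fs.map (algebraMap A B)) :=
    (spanL_map A B fs).symm
  rw [hspan]
  let L1 := hdiModelEquiv (spanL (fs.map (algebraMap A B)))
    ((DRing.LBaseChange (algebraMap A B)).obj K) E'' e'' i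
  have hgoodX : ∀ j, GoodL (X.X j) (fs.map (algebraMap A B)) := fun j =>
    haveI : Module.Injective A (E.X j) := hinj j
    goodL_ext (E.X j) (goodAll_of_injective (E.X j)) fs
  have h2 : IsIso (Q.map ((RG.gamCx (spanL (fs.map (algebraMap A B)))).map g)) :=
    isIso_Q_map_gamCx g _ hgoodX (goodL_of_injective _ hinj'' _) hg'
  have h2' : QuasiIso ((RG.gamCx (spanL (fs.map (algebraMap A B)))).map g) := by
    rw [← DerivedCategory.isIso_Q_map_iff_quasiIso]; exact h2
  let L2 : ((RG.gamCx (spanL (fs.map (algebraMap A B)))).obj X).homology i ≅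
      ((RG.gamCx (spanL (fs.map (algebraMap A B)))).obj E'').homology i :=
    asIso (HomologicalComplex.homologyMap ((RG.gamCx (spanL (fs.map (algebraMap A B)))).map g) i)
  have hiso3 : IsIso (extGamCx (B := B) (spanL fs) E) := inferInstance
  let L3 : ((extendCx A B).obj ((RG.gamCx (spanL fs)).obj E)).homology i ≅
      ((RG.gamCx ((spanL fs).map (algebraMap A B))).obj X).homology i :=
    (HomologicalComplex.homologyFunctor _ _ i).mapIso (asIso (extGamCx (B := B) (spanL fs) E))
  let L4 := extendCxHomologyIso A B ((RG.gamCx (spanL fs)).obj E) i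
  let L5 := extendEquiv (B := B) (hdiModelEquiv (spanL fs) K E e i).symm
  have L3' : ((extendCx A B).obj ((RG.gamCx (spanL fs)).obj E)).homology i ≅
      ((RG.gamCx (spanL (fs.map (algebraMap A B)))).obj X).homology i := by
    rw [← hspan]; exact L3
  exact ⟨(L1 ≪≫ₗ (L2.symm ≪≫ L3'.symm ≪≫ L4).toLinearEquiv ≪≫ₗ L5).toModuleIso⟩

end Groth.Agent.Lib.Helper2.RGTors
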