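import Groth.Prelude.Def_DRing3
import Groth.Agent.Lib.Helper16.TorsionInjective
import Groth.Agent.Lib.Helper2.TorsExt.TorsAlg

/-!
# "Good" modules: `f` is surjective on `Γ_{I'} M` modulo `f`-power torsion
-/

set_option autoImplicit false
universe u

namespace Groth.Agent.Lib.Helper2.RGTors

open Groth.Agent.Lib.Helper2.TorsExt

variable {A : Type u} [CommRing A]

/-- The ideal generated by a list. -/
def spanL : List A → Ideal A
  | [] => ⊥
  | f :: fs => Ideal.span {f} ⊔ spanL fs

lemma spanL_eq : ∀ fs : List A, spanL fs = Ideal.span {x | x ∈ fs}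
  | [] => by simp [spanL]
  | f :: fs => by
    rw [spanL, spanL_eq fs, ← Ideal.span_union]
    congr 1
    ext x
    simp

lemma mem_spanL {fs : List A} {f : A} (hf : f ∈ fs) : f ∈ spanL fs := by
  rw [spanL_eq]
  exact Ideal.subset_span hf

section torsion

variable (M : Type u) [AddCommGroup M] [Module A M]

lemma torsionSub_anti {a b : Ideal A} (h : a ≤ b) :
    DRing.torsionSub b M ≤ DRing.torsionSub a M := by
  rintro x ⟨n, hn⟩
  exact ⟨n, fun r hr => hn r (Ideal.pow_right_mono h n hr)⟩

lemma torsionSub_sup_eq_inf (a b : Ideal A) :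
    DRing.torsionSub (a ⊔ b) M = DRing.torsionSub a M ⊓ DRing.torsionSub b M := by
  apply le_antisymm
  · exact le_inf (torsionSub_anti M le_sup_left) (torsionSub_anti M le_sup_right)
  · rintro x ⟨⟨k, hk⟩, ⟨l, hl⟩⟩
    refine ⟨k + l, fun r hr => ?_⟩
    have hr' := Ideal.sup_pow_add_le_pow_sup_pow hr
    obtain ⟨s, hs, t, ht, rfl⟩ := Submodule.mem_sup.mp hr'
    rw [add_smul, hk s hs, hl t ht, add_zero]

lemma torsionSub_bot : DRing.torsionSub (⊥ : Ideal A) M = ⊤ := by
  rw [eq_top_iff]
  intro x _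
  refine ⟨1, fun a ha => ?_⟩
  rw [pow_one, Ideal.mem_bot] at ha
  rw [ha, zero_smul]

variable {M}

lemma mem_torsionSub_span_singleton {f : A} {x : M} :
    x ∈ DRing.torsionSub (Ideal.span {f}) M ↔ ∃ n : ℕ, f ^ n • x = 0 := by
  constructor
  · rintro ⟨n, hn⟩
    refine ⟨n, hn _ ?_⟩
    rw [Ideal.span_singleton_pow]
    exact Ideal.mem_span_singleton_self _
  · rintro ⟨n, hn⟩
    refine ⟨n, fun a ha => ?_⟩
    rw [Ideal.span_singleton_pow, Ideal.mem_span_singleton] at ha
    obtain ⟨c, rfl⟩ := ha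
    rw [mul_comm, mul_smul, hn, smul_zero]

lemma mem_torsionSub_sup_singleton {f : A} {I' : Ideal A} {x : M} :
    x ∈ DRing.torsionSub (Ideal.span {f} ⊔ I') M ↔
      (∃ n : ℕ, f ^ n • x = 0) ∧ x ∈ DRing.torsionSub I' M := by
  rw [torsionSub_sup_eq_inf, Submodule.mem_inf, mem_torsionSub_span_singleton]

end torsion

/-- `f` acts surjectively on `Γ_{I'} M` modulo `f`-power torsion. -/
def Good (f : A) (I' : Ideal A) (M : Type u) [AddCommGroup M] [Module A M] : Prop :=
  ∀ x ∈ DRing.torsionSub I' M, ∃ y ∈ DRing.torsionSub I' M, ∃ n : ℕ, f ^ n • (x - f • y) = 0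

section GoodL

variable (M : Type u) [AddCommGroup M] [Module A M]

/-- Goodness along a list of elements. -/
def GoodL : List A → Prop
  | [] => True
  | f :: fs => Good f (spanL fs) M ∧ GoodL fs

variable (A) in
/-- Good for every element and every ideal. -/
def GoodAll : Prop := ∀ (f : A) (I' : Ideal A), Good f I' M

lemma GoodAll.goodL (h : GoodAll A M) : ∀ fs : List A, GoodL M fs
  | [] => trivial
  | f :: fs => ⟨h f (spanL fs), GoodAll.goodL h fs⟩

end GoodL

lemma Good.of_linearEquiv {f : A} {I' : Ideal A} {M N : Type u} [AddCommGroup M] [Module A M]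
    [AddCommGroup N] [Module A N] (e : M ≃ₗ[A] N) (h : Good f I' M) : Good f I' N := by
  intro x hx
  obtain ⟨y, hy, n, hn⟩ := h (e.symm x) (DRing.map_mem_torsionSub I' e.symm.toLinearMap hx)
  refine ⟨e y, DRing.map_mem_torsionSub I' e.toLinearMap hy, n, ?_⟩
  have := congrArg e hn
  rw [map_zero, map_smul, map_sub, map_smul, LinearEquiv.apply_symm_apply] at this
  exact this

lemma GoodL.of_linearEquiv {M N : Type u} [AddCommGroup M] [Module A M]
    [AddCommGroup N] [Module A N] (e : M ≃ₗ[A] N) : ∀ fs : List A, GoodL M fs → GoodL N fs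
  | [], _ => trivial
  | _ :: fs, h => ⟨h.1.of_linearEquiv e, GoodL.of_linearEquiv e fs h.2⟩

/-- Over a Noetherian ring, `f` is surjective on an injective module modulo `f`-power torsion. -/
lemma exists_smul_sub_eq_zero_of_injective [IsNoetherianRing A] (E : Type u) [AddCommGroup E]
    [Module A E] [Module.Injective A E] (f : A) (x : E) :
    ∃ (y : E) (n : ℕ), f ^ n • (x - f • y) = 0 := by
  -- the chain of annihilators of powers of `f` stabilizes
  let chain : ℕ →o Ideal A :=
    ⟨fun m => LinearMap.ker (LinearMap.toSpanSingleton A A (f ^ m)), by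
      intro m m' hmm' a ha
      rw [LinearMap.mem_ker, LinearMap.toSpanSingleton_apply] at ha ⊢
      obtain ⟨k, rfl⟩ := Nat.exists_eq_add_of_le hmm'
      rw [pow_add, smul_eq_mul, ← mul_assoc, ← smul_eq_mul (a := a), ha, zero_mul]⟩
  obtain ⟨c, hc⟩ := monotone_stabilizes_iff_noetherian.mpr (inferInstance : IsNoetherian A A) chain
  have hc1 : ∀ a : A, a * f ^ (c + 1) = 0 → a * f ^ c = 0 := by
    intro a ha
    have h1 : a ∈ chain (c + 1) := by
      change a ∈ LinearMap.ker (LinearMap.toSpanSingleton A A (f ^ (c + 1)))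
      rw [LinearMap.mem_ker, LinearMap.toSpanSingleton_apply, smul_eq_mul]
      exact ha
    rw [← hc (c + 1) (Nat.le_succ c)] at h1
    change a ∈ LinearMap.ker (LinearMap.toSpanSingleton A A (f ^ c)) at h1
    rw [LinearMap.mem_ker, LinearMap.toSpanSingleton_apply, smul_eq_mul] at h1
    exact h1
  -- multiplication by `f^(c+1)` on `A / ann (f^(c+1))` is injective
  let K : Ideal A := LinearMap.ker (LinearMap.toSpanSingleton A A (f ^ (c + 1)))
  let i : (A ⧸ K) →ₗ[A] A := Submodule.liftQ K (LinearMap.toSpanSingleton A A (f ^ (c + 1))) le_rfl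
  have hi : Function.Injective i := by
    rw [← LinearMap.ker_eq_bot]
    exact Submodule.ker_liftQ_eq_bot _ _ _ le_rfl
  let h : (A ⧸ K) →ₗ[A] E := Submodule.liftQ K (LinearMap.toSpanSingleton A E (f ^ c • x)) (by
    intro a ha
    change a ∈ LinearMap.ker (LinearMap.toSpanSingleton A A (f ^ (c + 1))) at ha
    rw [LinearMap.mem_ker, LinearMap.toSpanSingleton_apply, smul_eq_mul] at ha
    rw [LinearMap.mem_ker, LinearMap.toSpanSingleton_apply, ← mul_smul, hc1 a ha, zero_smul])
  obtain ⟨ψ, hψ⟩ := Module.Injective.out (R := A) (Q := E) i hi h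
  refine ⟨ψ 1, c, ?_⟩
  have h1 := hψ (Submodule.Quotient.mk 1)
  have h2 : i (Submodule.Quotient.mk 1) = f ^ (c + 1) := by
    change (Submodule.liftQ K (LinearMap.toSpanSingleton A A (f ^ (c + 1))) le_rfl)
      (Submodule.Quotient.mk 1) = _
    rw [Submodule.liftQ_apply, LinearMap.toSpanSingleton_apply, one_smul]
  have h3 : h (Submodule.Quotient.mk 1) = f ^ c • x := by
    change (Submodule.liftQ K (LinearMap.toSpanSingleton A E (f ^ c • x)) _)
      (Submodule.Quotient.mk 1) = _
    rw [Submodule.liftQ_apply, LinearMap.toSpanSingleton_apply, one_smul]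
  rw [h2, h3] at h1
  have h4 : ψ (f ^ (c + 1)) = f ^ (c + 1) • ψ 1 := by
    rw [← map_smul, smul_eq_mul, mul_one]
  rw [h4] at h1
  rw [smul_sub, ← h1, pow_succ, mul_smul, sub_self]

/-- Injective modules over Noetherian rings are good for all elements and ideals. -/
lemma goodAll_of_injective [IsNoetherianRing A] (E : Type u) [AddCommGroup E]
    [Module A E] [Module.Injective A E] : GoodAll A E := by
  intro f I' x hx
  haveI : Module.Injective A (DRing.torsionSub I' E) :=
    Groth.Agent.Lib.Helper16.LC.injective_torsionSub I' E inferInstance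
  obtain ⟨y, n, hn⟩ := exists_smul_sub_eq_zero_of_injective (DRing.torsionSub I' E) f ⟨x, hx⟩
  refine ⟨y.1, y.2, n, ?_⟩
  have := congrArg Subtype.val hn
  exact this

end Groth.Agent.Lib.Helper2.RGTors
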