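import Groth.Agent.Lib.Helper2.RGTors.Step
import Groth.Agent.Lib.Helper2.RGColim.Cls

/-!
# Maps from torsion objects into `Γ_I X` and `X`
-/

set_option autoImplicit false
universe u

open CategoryTheory CategoryTheory.Limits DerivedCategory Pretriangulated

namespace Groth.Agent.Lib.Helper2.RGTors

open Groth.Agent.Lib.Helper2.TorsExt Groth.Agent.Lib.Helper13 Groth.Agent.Lib.Helper13.Coind
  Groth.Agent.Lib.Helper13.DR Groth.Agent.Lib.Helper13.PC

attribute [local instance] HasDerivedCategory.standard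

variable {A : Type u} [CommRing A]

/-- `f`-power torsion cohomology for every `f` in the list. -/
def TorsL (fs : List A) (L : Dual.D A) : Prop := ∀ f ∈ fs, TorsD f L

lemma TorsL.of_iso {fs : List A} {L L' : Dual.D A} (e : L ≅ L') (h : TorsL fs L) : TorsL fs L' :=
  fun f hf => (h f hf).of_iso e

lemma isIso_ιCx_bot (X : DRing.Cx A) : IsIso (ιCx (⊥ : Ideal A) X) := by
  have : ∀ j, IsIso ((ιCx (⊥ : Ideal A) X).f j) := by
    intro j
    rw [ConcreteCategory.isIso_iff_bijective]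
    constructor
    · exact Subtype.val_injective
    · intro x
      exact ⟨tmk x (by rw [torsionSub_bot]; trivial), rfl⟩
  exact HomologicalComplex.Hom.isIso_of_components _

/-- **Main bijection.** -/
theorem homBij (X : DRing.Cx A) : ∀ (fs : List A), (∀ j, GoodL (X.X j) fs) →
    ∀ (L : Dual.D A), TorsL fs L →
      Function.Bijective (fun α : L ⟶ Q.obj ((RG.gamCx (spanL fs)).obj X) =>
        α ≫ Q.map (ιCx (spanL fs) X))
  | [], _, L, _ => by
    have h1 := isIso_ιCx_bot X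
    have h2 : IsIso (Q.map (ιCx (spanL ([] : List A)) X)) := by
      change IsIso (Q.map (ιCx (⊥ : Ideal A) X))
      infer_instance
    constructor
    · intro α α' h
      exact (cancel_mono _).1 h
    · intro β
      exact ⟨β ≫ inv (Q.map (ιCx (spanL ([] : List A)) X)), by simp⟩
  | f :: fs, hX, L, hL => by
    have ih := homBij X fs (fun j => (hX j).2) L (fun g hg => hL g (List.mem_cons_of_mem _ hg))
    have hs := step_bijective f (spanL fs) X (fun j => (hX j).1) L (hL f List.mem_cons_self)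
    change Function.Bijective (fun α : L ⟶ Q.obj ((RG.gamCx (Ideal.span {f} ⊔ spanL fs)).obj X) =>
        α ≫ Q.map (ιCx (Ideal.span {f} ⊔ spanL fs) X))
    have h1 : Q.map (ιCx (Ideal.span {f} ⊔ spanL fs) X) =
        Q.map (inclCx (le_sup_right : spanL fs ≤ Ideal.span {f} ⊔ spanL fs) X) ≫
          Q.map (ιCx (spanL fs) X) := by
      rw [← Functor.map_comp, inclCx_ιCx]
    have hcomp : (fun α : L ⟶ Q.obj ((RG.gamCx (Ideal.span {f} ⊔ spanL fs)).obj X) =>
        α ≫ Q.map (ιCx (Ideal.span {f} ⊔ spanL fs) X)) =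
        (fun β : L ⟶ Q.obj ((RG.gamCx (spanL fs)).obj X) => β ≫ Q.map (ιCx (spanL fs) X)) ∘
          (fun α : L ⟶ Q.obj ((RG.gamCx (Ideal.span {f} ⊔ spanL fs)).obj X) =>
            α ≫ Q.map (inclCx (le_sup_right : spanL fs ≤ Ideal.span {f} ⊔ spanL fs) X)) := by
      funext α
      rw [h1]
      simp only [Function.comp_apply, Category.assoc]
    rw [hcomp]
    exact ih.comp hs

/-- Cohomology of `Γ_I X` is `f`-power torsion for `f ∈ I`. -/
lemma TorsD_gamCx (I : Ideal A) (X : DRing.Cx A) {f : A} (hf : f ∈ I) :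
    TorsD f (Q.obj ((RG.gamCx I).obj X)) := by
  intro j
  have h2 : FTors f (((RG.gamCx I).obj X).homology j) := by
    intro ξ
    obtain ⟨z, rfl⟩ := RGColim.b_surjective ((RG.gamCx I).obj X) j ξ
    obtain ⟨n, hn⟩ := tv_mem (z : ((RG.gamCx I).obj X).X j)
    refine ⟨n, ?_⟩
    rw [← map_smul]
    have : f ^ n • z = 0 := by
      apply Subtype.ext
      apply Subtype.ext
      exact hn _ (Ideal.pow_mem_pow hf n)
    rw [this, map_zero]
  exact FTors.of_linearEquiv f
    ((DerivedCategory.homologyFunctorFactors (ModuleCat.{u} A) j).app _).symm.toLinearEquiv h2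

lemma TorsL_gamCx (fs : List A) (X : DRing.Cx A) :
    TorsL fs (Q.obj ((RG.gamCx (spanL fs)).obj X)) :=
  fun _ hf => TorsD_gamCx _ X (mem_spanL hf)

/-- Yoneda-type criterion. -/
lemma isIso_of_bijective_comp {C : Type*} [Category C] {P P' : C} (φ : P ⟶ P')
    (S : C → Prop) (hP : S P) (hP' : S P')
    (h : ∀ L, S L → Function.Bijective (fun α : L ⟶ P => α ≫ φ)) : IsIso φ := by
  obtain ⟨s, hs⟩ := (h P' hP').2 (𝟙 P')
  have hs' : s ≫ φ = 𝟙 P' := hs
  have h2 : φ ≫ s = 𝟙 P := by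
    apply (h P hP).1
    change (φ ≫ s) ≫ φ = 𝟙 P ≫ φ
    rw [Category.assoc, hs', Category.comp_id, Category.id_comp]
  exact ⟨s, h2, hs'⟩

/-- If `X` has good terms and torsion cohomology then `Γ_I X ⟶ X` is a quasi-isomorphism. -/
theorem isIso_Q_map_ιCx (X : DRing.Cx A) (fs : List A) (hX : ∀ j, GoodL (X.X j) fs)
    (hT : TorsL fs (Q.obj X)) : IsIso (Q.map (ιCx (spanL fs) X)) :=
  isIso_of_bijective_comp _ (TorsL fs) (TorsL_gamCx fs X) hT (fun L hL => homBij X fs hX L hL)

/-- `Γ_I` preserves quasi-isomorphisms between complexes with good terms. -/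
theorem isIso_Q_map_gamCx {X Y : DRing.Cx A} (g : X ⟶ Y) (fs : List A)
    (hX : ∀ j, GoodL (X.X j) fs) (hY : ∀ j, GoodL (Y.X j) fs) (hg : IsIso (Q.map g)) :
    IsIso (Q.map ((RG.gamCx (spanL fs)).map g)) := by
  apply isIso_of_bijective_comp _ (TorsL fs) (TorsL_gamCx fs X) (TorsL_gamCx fs Y)
  intro L hL
  have hX' := homBij X fs hX L hL
  have hY' := homBij Y fs hY L hL
  have hnat : (RG.gamCx (spanL fs)).map g ≫ ιCx (spanL fs) Y = ιCx (spanL fs) X ≫ g := rfl
  have hg' : Function.Bijective (fun β : L ⟶ Q.obj X => β ≫ Q.map g) :=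
    ⟨fun β β' h => (cancel_mono _).1 h, fun γ => ⟨γ ≫ inv (Q.map g), by simp⟩⟩
  have hcomp : (fun β : L ⟶ Q.obj ((RG.gamCx (spanL fs)).obj Y) => β ≫ Q.map (ιCx (spanL fs) Y)) ∘
      (fun α : L ⟶ Q.obj ((RG.gamCx (spanL fs)).obj X) =>
        α ≫ Q.map ((RG.gamCx (spanL fs)).map g)) =
      (fun β : L ⟶ Q.obj X => β ≫ Q.map g) ∘
        (fun α : L ⟶ Q.obj ((RG.gamCx (spanL fs)).obj X) => α ≫ Q.map (ιCx (spanL fs) X)) := by
    funext α
    simp only [Function.comp_apply, Category.assoc, ← Functor.map_comp, hnat]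
  have h3 : Function.Bijective ((fun β : L ⟶ Q.obj ((RG.gamCx (spanL fs)).obj Y) =>
      β ≫ Q.map (ιCx (spanL fs) Y)) ∘ (fun α : L ⟶ Q.obj ((RG.gamCx (spanL fs)).obj X) =>
        α ≫ Q.map ((RG.gamCx (spanL fs)).map g))) := by
    rw [hcomp]
    exact hg'.comp hX'
  exact (Function.Bijective.of_comp_iff' hY' _).1 h3

end Groth.Agent.Lib.Helper2.RGTors
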