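import Groth.Agent.Lib.Helper2.RGTors.HasR
import Groth.Agent.Lib.Helper13.DRingRestrict

/-!
# `HDI` and restriction of scalars
-/

set_option autoImplicit false
universe u

open CategoryTheory CategoryTheory.Limits DerivedCategory Pretriangulated

namespace Groth.Agent.Lib.Helper2.RGTors

open Groth.Agent.Lib.Helper13 Groth.Agent.Lib.Helper2.TorsExt Groth.Agent.Lib.Helper13.DR

attribute [local instance] HasDerivedCategory.standard

variable {A B : Type u} [CommRing A] [CommRing B] (φ : A →+* B)

section modules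

variable (I : Ideal A) (M : ModuleCat.{u} B)

lemma mem_torsionSub_restrict_iff (x : M) :
    (show (ModuleCat.restrictScalars.{u} φ).obj M from x) ∈
        DRing.torsionSub I ((ModuleCat.restrictScalars.{u} φ).obj M) ↔
      x ∈ DRing.torsionSub (I.map φ) M := by
  constructor
  · rintro ⟨n, hn⟩
    refine ⟨n, ?_⟩
    have hle : (I.map φ) ^ n ≤ LinearMap.ker (LinearMap.toSpanSingleton B M x) := by
      rw [← Ideal.map_pow, Ideal.map_le_iff_le_comap]
      intro a ha
      rw [Ideal.mem_comap, LinearMap.mem_ker, LinearMap.toSpanSingleton_apply]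
      exact hn a ha
    intro b hb
    have := hle hb
    rwa [LinearMap.mem_ker, LinearMap.toSpanSingleton_apply] at this
  · rintro ⟨n, hn⟩
    refine ⟨n, fun a ha => ?_⟩
    have h1 : φ a ∈ (I.map φ) ^ n := by
      rw [← Ideal.map_pow]
      exact Ideal.mem_map_of_mem φ ha
    exact hn _ h1

/-- Restrictions of injective modules over a Noetherian ring are good. -/
lemma goodAll_restrict [IsNoetherianRing B] [Module.Injective B M] :
    GoodAll A ((ModuleCat.restrictScalars.{u} φ).obj M) := by
  intro f I' x hx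
  have hx' : (show M from x) ∈ DRing.torsionSub (I'.map φ) M :=
    (mem_torsionSub_restrict_iff φ I' M x).1 hx
  obtain ⟨y, hy, n, hn⟩ := goodAll_of_injective (A := B) M (φ f) (I'.map φ) x hx'
  refine ⟨y, (mem_torsionSub_restrict_iff φ I' M y).2 hy, n, ?_⟩
  have : ∀ (k : ℕ) (z : M), (f ^ k • (show (ModuleCat.restrictScalars.{u} φ).obj M from z)) =
      (φ f) ^ k • z := by
    intro k z
    change φ (f ^ k) • z = _
    rw [map_pow]
  rw [this]
  exact hn

/-- `Γ_I (res M) → res (Γ_{IB} M)`. -/
def gamRestrict :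
    DRing.torsionSub I ((ModuleCat.restrictScalars.{u} φ).obj M) →ₗ[A]
      (ModuleCat.restrictScalars.{u} φ).obj (ModuleCat.of B (DRing.torsionSub (I.map φ) M)) where
  toFun x := (⟨x.1, (mem_torsionSub_restrict_iff φ I M x.1).1 x.2⟩ :
    DRing.torsionSub (I.map φ) M)
  map_add' _ _ := rfl
  map_smul' _ _ := rfl

lemma gamRestrict_bijective : Function.Bijective (gamRestrict φ I M) := by
  constructor
  · intro x y h
    apply Subtype.ext
    exact congrArg (fun z : DRing.torsionSub (I.map φ) M => (z.1 : M)) h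
  · intro y
    let y' : DRing.torsionSub (I.map φ) M := y
    exact ⟨⟨y'.1, (mem_torsionSub_restrict_iff φ I M y'.1).2 y'.2⟩, rfl⟩

/-- `Γ_I (res M) ⟶ res (Γ_{IB} M)` as a morphism. -/
noncomputable def gamRestrictHom :
    (DRing.gammaI I).obj ((ModuleCat.restrictScalars.{u} φ).obj M) ⟶
      (ModuleCat.restrictScalars.{u} φ).obj ((DRing.gammaI (I.map φ)).obj M) :=
  show ModuleCat.of A (DRing.torsionSub I ((ModuleCat.restrictScalars.{u} φ).obj M)) ⟶
      ModuleCat.of A ((ModuleCat.restrictScalars.{u} φ).obj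
        (ModuleCat.of B (DRing.torsionSub (I.map φ) M))) from
    ModuleCat.ofHom (gamRestrict φ I M)

end modules

/-- `Γ_I (res E) ⟶ res (Γ_{IB} E)` on complexes. -/
noncomputable def gamRestrictCx (I : Ideal A) (E : DRing.Cx B) :
    (RG.gamCx I).obj ((DRing.restrictCx φ).obj E) ⟶
      (DRing.restrictCx φ).obj ((RG.gamCx (I.map φ)).obj E) where
  f j := gamRestrictHom φ I (E.X j)
  comm' i j _ := rfl

instance isIso_gamRestrictCx (I : Ideal A) (E : DRing.Cx B) : IsIso (gamRestrictCx φ I E) := by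
  have : ∀ j, IsIso ((gamRestrictCx φ I E).f j) := by
    intro j
    rw [ConcreteCategory.isIso_iff_bijective]
    exact gamRestrict_bijective φ I (E.X j)
  exact HomologicalComplex.Hom.isIso_of_components _

/-- Transport a `B`-linear equivalence to the restrictions of scalars (across universes). -/
def restrictEquiv {M : ModuleCat.{u} B} {N : ModuleCat.{u + 1} B} (e : M ≃ₗ[B] N) :
    (ModuleCat.restrictScalars.{u} φ).obj M ≃ₗ[A] (ModuleCat.restrictScalars.{u + 1} φ).obj N where
  toFun x := e x
  invFun y := e.symm y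
  map_add' x y := e.map_add x y
  map_smul' a x := e.map_smul (φ a) x
  left_inv x := e.symm_apply_apply x
  right_inv y := e.apply_symm_apply y

variable [IsNoetherianRing A] [IsNoetherianRing B]

theorem nonempty_HDI_restrict_iso (I : Ideal A) (K : Dual.D B) (i : ℤ) :
    Nonempty (Dual2.HDI A I ((DRing.restrictD φ).obj K) i ≅
      (ModuleCat.restrictScalars φ).obj (Dual2.HDI B (I.map φ) K i)) := by
  obtain ⟨fs, rfl⟩ := exists_list I
  obtain ⟨E, hE, e, hinj⟩ := exists_res K
  let X : DRing.Cx A := (DRing.restrictCx φ).obj E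
  obtain ⟨E'', g, hE'', hg, hinj''⟩ := exists_res_cx X
  have hg' : IsIso (Q.map g) := by
    rw [DerivedCategory.isIso_Q_map_iff_quasiIso]; exact hg
  let e'' : (DRing.restrictD φ).obj K ≅ Q.obj E'' :=
    (DRing.restrictD φ).mapIso e ≪≫ restrictDQIso φ E ≪≫ asIso (Q.map g)
  let L1 := hdiModelEquiv (spanL fs) ((DRing.restrictD φ).obj K) E'' e'' i
  have hgoodX : ∀ j, GoodL (X.X j) fs := fun j =>
    haveI : Module.Injective B (E.X j) := hinj j
    (goodAll_restrict φ (E.X j)).goodL _ fs
  have h2 : IsIso (Q.map ((RG.gamCx (spanL fs)).map g)) :=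
    isIso_Q_map_gamCx g fs hgoodX (goodL_of_injective _ hinj'' fs) hg'
  have h2' : QuasiIso ((RG.gamCx (spanL fs)).map g) := by
    rw [← DerivedCategory.isIso_Q_map_iff_quasiIso]; exact h2
  let L2 : ((RG.gamCx (spanL fs)).obj X).homology i ≅ ((RG.gamCx (spanL fs)).obj E'').homology i :=
    asIso (HomologicalComplex.homologyMap ((RG.gamCx (spanL fs)).map g) i)
  let L3 : ((RG.gamCx (spanL fs)).obj X).homology i ≅
      ((DRing.restrictCx φ).obj ((RG.gamCx ((spanL fs).map φ)).obj E)).homology i :=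
    (HomologicalComplex.homologyFunctor _ _ i).mapIso (asIso (gamRestrictCx φ (spanL fs) E))
  let L4 := restrictCxHomologyIso φ ((RG.gamCx ((spanL fs).map φ)).obj E) i
  let L5 := restrictEquiv φ (hdiModelEquiv ((spanL fs).map φ) K E e i).symm
  exact ⟨(L1 ≪≫ₗ (L2.symm ≪≫ L3 ≪≫ L4).toLinearEquiv ≪≫ₗ L5).toModuleIso⟩

end Groth.Agent.Lib.Helper2.RGTors
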