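import Groth.Agent.Lib.Helper2.RGTors.Good
import Groth.Agent.Lib.Helper2.TorsExt.Classes
import Groth.Agent.Lib.Helper13.RGam2
import Mathlib.Algebra.Homology.DerivedCategory.ShortExact

/-!
# One step of the dévissage: `Γ_{(f) ⊔ I'} X ⊆ Γ_{I'} X` with quotient on which `f` is bijective
-/

set_option autoImplicit false
universe u

open CategoryTheory CategoryTheory.Limits DerivedCategory Pretriangulated

namespace Groth.Agent.Lib.Helper2.RGTors

open Groth.Agent.Lib.Helper2.TorsExt Groth.Agent.Lib.Helper13 Groth.Agent.Lib.Helper13.Coind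
  Groth.Agent.Lib.Helper13.DR Groth.Agent.Lib.Helper13.PC

attribute [local instance] HasDerivedCategory.standard

variable {A : Type u} [CommRing A]

/-- The inclusion `Γ_I X ⟶ X`. -/
noncomputable def ιCx (I : Ideal A) (X : DRing.Cx A) : (RG.gamCx I).obj X ⟶ X where
  f j := (DRing.gammaIι I).app (X.X j)
  comm' i j _ := rfl

/-- The inclusion `Γ_I X ⟶ Γ_{I'} X` for `I' ≤ I`. -/
noncomputable def inclCx {I' I : Ideal A} (h : I' ≤ I) (X : DRing.Cx A) :
    (RG.gamCx I).obj X ⟶ (RG.gamCx I').obj X where
  f j := ModuleCat.ofHom (Submodule.inclusion (torsionSub_anti (X.X j) h))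
  comm' i j _ := rfl

lemma inclCx_ιCx {I' I : Ideal A} (h : I' ≤ I) (X : DRing.Cx A) :
    inclCx h X ≫ ιCx I' X = ιCx I X := rfl

/-- General vanishing: no maps from `f`-torsion objects to objects on which `f` is bijective. -/
lemma isZero_extD_of_TorsD {f : A} {L : Dual.D A} (hL : TorsD f L) :
    IsZero ((extD A (Localization.Away f)).obj L) := by
  apply isZero_of_forall_isZero_homology
  intro j
  have hsub : Subsingleton (TensorProduct A (Localization.Away f)
      ((homologyFunctor (ModuleCat.{u} A) j).obj L)) := subsingleton_tensor_of_FTors f (hL j)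
  have h0 : IsZero ((ModuleCat.extendScalars.{u, u, u} (algebraMap A (Localization.Away f))).obj
      ((homologyFunctor (ModuleCat.{u} A) j).obj L)) := by
    have : Subsingleton ((ModuleCat.extendScalars.{u, u, u}
        (algebraMap A (Localization.Away f))).obj ((homologyFunctor (ModuleCat.{u} A) j).obj L)) :=
      (extendScalarsEquiv (Localization.Away f) _).toEquiv.subsingleton
    exact ModuleCat.isZero_of_subsingleton _
  exact h0.of_iso (homologyExtDIso A (Localization.Away f) L j)

lemma eq_zero_of_TorsD_of_BijD {f : A} {L Y : Dual.D A} (hL : TorsD f L) (hY : BijD f Y)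
    (g : L ⟶ Y) : g = 0 := by
  have hiso := hY.isIso_unit
  have h1 : (extD A (Localization.Away f)).map g = 0 := (isZero_extD_of_TorsD hL).eq_of_src _ _
  have h2 : g ≫ (extResAdj A (Localization.Away f)).unit.app Y = 0 := by
    have := (extResAdj A (Localization.Away f)).unit.naturality g
    simp only [Functor.id_obj, Functor.id_map, Functor.comp_obj, Functor.comp_map] at this
    rw [this, h1, Functor.map_zero, comp_zero]
  exact (cancel_mono ((extResAdj A (Localization.Away f)).unit.app Y)).1 (by rw [h2, zero_comp])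

/-- A complex on whose terms `f` is bijective has `f` bijective on cohomology. -/
lemma BijD_of_termwise {f : A} (C : DRing.Cx A) (h : ∀ j, FBij f (C.X j)) : BijD f (Q.obj C) := by
  have hiso : IsIso (f • 𝟙 C) := by
    have : ∀ j, IsIso ((f • 𝟙 C).f j) := by
      intro j
      rw [ConcreteCategory.isIso_iff_bijective]
      exact h j
    exact HomologicalComplex.Hom.isIso_of_components _
  intro j
  have h1 : IsIso (HomologicalComplex.homologyMap (f • 𝟙 C) j) := inferInstance
  rw [RG.homologyMap_smul_id] at h1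
  have h2 : FBij f (C.homology j) := by
    rw [ConcreteCategory.isIso_iff_bijective] at h1
    exact h1
  exact FBij.of_linearEquiv f
    ((DerivedCategory.homologyFunctorFactors (ModuleCat.{u} A) j).app C).symm.toLinearEquiv h2

section Step

variable (f : A) (I' : Ideal A) (X : DRing.Cx A)

/-- The underlying element of `X^j` of an element of `Γ_I(X^j)`. -/
def tv {I : Ideal A} {X : DRing.Cx A} {j : ℤ} (x : ((RG.gamCx I).obj X).X j) : X.X j :=
  (show DRing.torsionSub I (X.X j) from x).1

lemma tv_mem {I : Ideal A} {X : DRing.Cx A} {j : ℤ} (x : ((RG.gamCx I).obj X).X j) :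
    tv x ∈ DRing.torsionSub I (X.X j) := (show DRing.torsionSub I (X.X j) from x).2

/-- Constructor. -/
def tmk {I : Ideal A} {X : DRing.Cx A} {j : ℤ} (x : X.X j) (hx : x ∈ DRing.torsionSub I (X.X j)) :
    ((RG.gamCx I).obj X).X j := (⟨x, hx⟩ : DRing.torsionSub I (X.X j))

/-- The short complex `Γ_{(f) ⊔ I'} X ⟶ Γ_{I'} X ⟶ coker`. -/
noncomputable def stepSC : ShortComplex (DRing.Cx A) :=
  ShortComplex.mk (inclCx (le_sup_right : I' ≤ Ideal.span {f} ⊔ I') X)
    (cokernel.π (inclCx (le_sup_right : I' ≤ Ideal.span {f} ⊔ I') X)) (cokernel.condition _)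

instance mono_inclCx {I' I : Ideal A} (h : I' ≤ I) : Mono (inclCx h X) := by
  have : ∀ j, Mono ((inclCx h X).f j) := by
    intro j
    rw [ModuleCat.mono_iff_injective]
    exact Submodule.inclusion_injective (torsionSub_anti (X.X j) h)
  exact HomologicalComplex.mono_of_mono_f _ this

lemma stepSC_shortExact : (stepSC f I' X).ShortExact where
  exact := ShortComplex.exact_of_g_is_cokernel _ (cokernelIsCokernel _)
  mono_f := by dsimp [stepSC]; infer_instance
  epi_g := by dsimp [stepSC]; infer_instance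

lemma FBij_stepSC_X₃ (hX : ∀ j, Good f I' (X.X j)) (j : ℤ) :
    FBij f ((stepSC f I' X).X₃.X j) := by
  have hse := (stepSC_shortExact f I' X).map_of_exact
    (HomologicalComplex.eval (ModuleCat.{u} A) (ComplexShape.up ℤ) j)
  have hex := hse.exact
  rw [ShortComplex.ShortExact.moduleCat_exact_iff_function_exact] at hex
  let π : ((RG.gamCx I').obj X).X j →ₗ[A] (stepSC f I' X).X₃.X j := ((stepSC f I' X).g.f j).hom
  have hsurj : Function.Surjective π := (ModuleCat.epi_iff_surjective _).1 hse.epi_g
  have hker : ∀ x : ((RG.gamCx I').obj X).X j,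
      π x = 0 ↔ tv x ∈ DRing.torsionSub (Ideal.span {f} ⊔ I') (X.X j) := by
    intro x
    constructor
    · intro hx
      obtain ⟨w, hw⟩ := (hex x).1 hx
      have hw' : tv (I := Ideal.span {f} ⊔ I') (X := X) (j := j) w = tv x :=
        congrArg Subtype.val hw
      rw [← hw']
      exact tv_mem _
    · intro hmem
      exact (hex x).2 ⟨tmk _ hmem, Subtype.ext rfl⟩
  have htv_smul : ∀ (a : A) (x : ((RG.gamCx I').obj X).X j), tv (a • x) = a • tv x :=
    fun _ _ => rfl
  have htv_sub : ∀ (x y : ((RG.gamCx I').obj X).X j), tv (x - y) = tv x - tv y :=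
    fun _ _ => rfl
  constructor
  · intro c c' hcc'
    obtain ⟨x, rfl⟩ := hsurj c
    obtain ⟨x', rfl⟩ := hsurj c'
    have hcc'' : f • π x = f • π x' := hcc'
    have h1 : π (f • (x - x')) = 0 := by
      rw [map_smul, map_sub, smul_sub, sub_eq_zero]
      exact hcc''
    rw [hker, htv_smul, mem_torsionSub_sup_singleton] at h1
    obtain ⟨⟨n, hn⟩, -⟩ := h1
    have h2 : π (x - x') = 0 := by
      rw [hker, mem_torsionSub_sup_singleton]
      refine ⟨⟨n + 1, ?_⟩, tv_mem _⟩
      rw [pow_succ, mul_smul]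
      exact hn
    rw [map_sub, sub_eq_zero] at h2
    exact h2
  · intro c
    obtain ⟨x, rfl⟩ := hsurj c
    obtain ⟨y, hy, n, hn⟩ := hX j (tv x) (tv_mem _)
    refine ⟨π (tmk y hy), ?_⟩
    have h2 : π (x - f • (tmk (I := I') (X := X) (j := j) y hy)) = 0 := by
      rw [hker, mem_torsionSub_sup_singleton]
      refine ⟨⟨n, ?_⟩, tv_mem _⟩
      exact hn
    rw [map_sub, sub_eq_zero, map_smul] at h2
    exact h2.symm

/-- The step: composition with `Γ_{(f) ⊔ I'} X ⟶ Γ_{I'} X` is bijective on maps from `f`-torsion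
objects. -/
theorem step_bijective (hX : ∀ j, Good f I' (X.X j)) (L : Dual.D A) (hL : TorsD f L) :
    Function.Bijective (fun α : L ⟶ Q.obj ((RG.gamCx (Ideal.span {f} ⊔ I')).obj X) =>
      α ≫ Q.map (inclCx (le_sup_right : I' ≤ Ideal.span {f} ⊔ I') X)) := by
  have hT := triangleOfSES_distinguished (stepSC_shortExact f I' X)
  have hB : BijD f (Q.obj (stepSC f I' X).X₃) :=
    BijD_of_termwise _ (FBij_stepSC_X₃ f I' X hX)
  constructor
  · intro α α' h
    have h0 : (α - α') ≫ Q.map (inclCx (le_sup_right : I' ≤ Ideal.span {f} ⊔ I') X) = 0 := by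
      rw [Preadditive.sub_comp, sub_eq_zero]; exact h
    obtain ⟨g, hg⟩ := Triangle.coyoneda_exact₂ _ (inv_rot_of_distTriang _ hT) (α - α') h0
    have hg0 : g = 0 := eq_zero_of_TorsD_of_BijD hL (hB.shift (-1)) g
    have h3 : α - α' = 0 := by
      rw [hg0] at hg
      exact hg.trans zero_comp
    exact sub_eq_zero.1 h3
  · intro β
    have h0 : β ≫ Q.map (stepSC f I' X).g = 0 := eq_zero_of_TorsD_of_BijD hL hB _
    obtain ⟨α, hα⟩ := Triangle.coyoneda_exact₂ _ hT β h0
    exact ⟨α, hα.symm⟩

end Step

end Groth.Agent.Lib.Helper2.RGTors
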